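import Groth.Agent.HilbCurve12.DvrExp
import Groth.Agent.NagaNorm57.Field
import Groth.Agent.NagaNorm57.Codim1
import Groth.Agent.VarNorm.Branches
import Groth.Agent.VarDim1.TotalRing
import Mathlib.RingTheory.Jacobson.Ring
import Mathlib.RingTheory.Ideal.GoingUp
import Mathlib.RingTheory.LocalProperties.Basic
import Mathlib.RingTheory.Localization.AtPrime.Basic

/-!
The branches of a one dimensional reduced local ring of an algebra of finite type, as a map to power series.
-/

set_option autoImplicit false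
set_option linter.style.haveILetI false
set_option maxHeartbeats 1600000
set_option backward.isDefEq.respectTransparency false
set_option backward.isDefEq.respectTransparency.types false

universe u

noncomputable section

namespace Groth.Agent.HilbCurve12

/-- Power series expansions along the branches at a rational point of a curve, with a uniform conductor. -/
structure CurveModel (k : Type u) [Field k] (R : Type u) [CommRing R] [Algebra k R] (m : Ideal R) (s : ℕ) where
  φ : R →ₐ[k] (Fin s → PowerSeries k)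
  c : ℕ
  pos : 0 < s
  mem_iff : ∀ r, r ∈ m ↔ ∀ i, (PowerSeries.X : PowerSeries k) ∣ φ r i
  approx : ∀ f : Fin s → PowerSeries k, (∀ i, (PowerSeries.X : PowerSeries k) ^ c ∣ f i) →
    ∀ N : ℕ, ∃ r : R, ∀ i, (PowerSeries.X : PowerSeries k) ^ N ∣ φ r i - f i
  small : ∀ d : ℕ, ∃ N : ℕ, ∀ r : R, (∀ i, (PowerSeries.X : PowerSeries k) ^ N ∣ φ r i) → r ∈ m ^ d

theorem isNagata_field (k : Type u) [Field k] : CAlg.IsNagata k := by
  refine ⟨inferInstance, fun p _ => ?_⟩
  intro L _ _ _ _ hfd
  haveI hp : p.IsMaximal := (Ideal.eq_bot_or_top p).resolve_right (Ideal.IsPrime.ne_top ‹_›) ▸ Ideal.bot_isMaximal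
  letI : Field (k ⧸ p) := Ideal.Quotient.field p
  have hb : Function.Bijective (algebraMap (k ⧸ p) (FractionRing (k ⧸ p))) := by
    refine ⟨IsFractionRing.injective (k ⧸ p) _, fun z => ?_⟩
    obtain ⟨a, b, hb, rfl⟩ := IsFractionRing.div_surjective (A := k ⧸ p) z
    exact ⟨a * b⁻¹, by rw [map_mul, map_inv₀, div_eq_mul_inv]⟩
  haveI : Module.Finite (k ⧸ p) (FractionRing (k ⧸ p)) :=
    Module.Finite.of_surjective (Algebra.linearMap (k ⧸ p) (FractionRing (k ⧸ p))) hb.2
  haveI : Module.Finite (k ⧸ p) L := Module.Finite.trans (FractionRing (k ⧸ p)) L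
  exact Module.Finite.of_injective (integralClosure (k ⧸ p) L).val.toLinearMap Subtype.val_injective

variable {k : Type u} [Field k] [IsAlgClosed k] {R : Type u} [CommRing R] [Algebra k R] [Algebra.FiniteType k R]

theorem exists_sub_algebraMap_mem (m : Ideal R) [m.IsMaximal] (r : R) : ∃ a : k, r - algebraMap k R a ∈ m := by
  letI : Field (R ⧸ m) := Ideal.Quotient.field m
  haveI : Algebra.FiniteType k (R ⧸ m) :=
    Algebra.FiniteType.of_surjective (Ideal.Quotient.mkₐ k m) Ideal.Quotient.mk_surjective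
  haveI : Module.Finite k (R ⧸ m) := finite_of_finite_type_of_isJacobsonRing k (R ⧸ m)
  obtain ⟨a, ha⟩ := (IsAlgClosed.algebraMap_bijective_of_isIntegral (k := k) (K := R ⧸ m)).2 (Ideal.Quotient.mk m r)
  exact ⟨a, Ideal.Quotient.eq.1 ha.symm⟩

theorem sup_eq_top_of_not_le {S : Type u} [CommRing S] {I J : Ideal S} (h : I.IsMaximal) (hJ : ¬ J ≤ I) :
    I ⊔ J = ⊤ :=
  h.1.2 _ (left_lt_sup.2 hJ)

theorem exists_curveModel (m : Ideal R) [m.IsMaximal] (A : Type u) [CommRing A] [Algebra R A] [Algebra k A]
    [IsScalarTower k R A] [IsLocalization.AtPrime A m] [IsLocalRing A] [IsReduced A]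
    (hdim : ringKrullDim A = 1) :
    ∃ s : ℕ, Brnch.numBranches A = (s : ℕ∞) ∧ Nonempty (CurveModel k R m s) := by
  classical
  haveI : IsNoetherianRing R := Algebra.FiniteType.isNoetherianRing k R
  haveI : IsNoetherianRing A := IsLocalization.isNoetherianRing m.primeCompl A inferInstance
  have hminfin : (minimalPrimes A).Finite := minimalPrimes.finite_of_isNoetherianRing A
  haveI : Finite (VarDim1.MinPt A) := by
    haveI := hminfin.to_subtype
    refine Finite.of_injective (fun p : VarDim1.MinPt A => (⟨p.1.asIdeal, p.2⟩ : minimalPrimes A)) ?_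
    intro p q h
    exact Subtype.ext (PrimeSpectrum.ext (congrArg Subtype.val h))
  let L := FractionRing A
  haveI : IsReduced L := isReduced_localizationPreserves (nonZeroDivisors A) L inferInstance
  -- finiteness of the normalisation
  have hNag : CAlg.IsNagata A := CAlg1.Nag.isNagata_localization
    (CAlg1.Nag.isNagata_of_finiteType (R := k) (isNagata_field k)) m.primeCompl A
  haveI hfinA' : Module.Finite A (integralClosure A L) :=
    NagaNorm57.finite_integralClosure_of_pi A hNag (fun p : VarDim1.MinPt A => FractionRing (A ⧸ p.1.asIdeal))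
      (fun p => ((Pi.evalAlgHom A _ p).comp (VarDim1.toComp A)).toRingHom)
      (fun p => by
        rw [show ((Pi.evalAlgHom A _ p).comp (VarDim1.toComp A)).toRingHom.comp (algebraMap A L) =
          algebraMap A (FractionRing (A ⧸ p.1.asIdeal)) from ((Pi.evalAlgHom A _ p).comp (VarDim1.toComp A)).comp_algebraMap]
        exact RingHom.essFiniteType_algebraMap.2
          (Algebra.EssFiniteType.comp A (A ⧸ p.1.asIdeal) (FractionRing (A ⧸ p.1.asIdeal))))
      (fun b hb => (injective_iff_map_eq_zero _).1 VarDim1.toComp_injective b (funext hb))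
  let A' := integralClosure A L
  haveI : Algebra.IsIntegral A A' := Algebra.IsIntegral.of_finite A A'
  haveI : IsNoetherianRing A' := IsNoetherianRing.of_finite A A'
  haveI : IsReduced A' := isReduced_of_injective A'.val Subtype.val_injective
  have hA'inj : Function.Injective (algebraMap A A') := fun a b h =>
    IsFractionRing.injective A L (congrArg Subtype.val h)
  haveI : Nontrivial A' := hA'inj.nontrivial
  -- a nonzerodivisor in the maximal ideal
  obtain ⟨g, hgm, hg⟩ : ∃ g ∈ IsLocalRing.maximalIdeal A, g ∈ nonZeroDivisors A := by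
    obtain ⟨g, hgm, hg⟩ := VarDim1.exists_mem_notMem_of_not_le (IsLocalRing.maximalIdeal A) hminfin.toFinset
      (fun p hp => (hminfin.mem_toFinset.1 hp).1.1) (fun p hp hle => by
        have := IsLocalRing.le_maximalIdeal (hminfin.mem_toFinset.1 hp).1.1.ne_top
        exact VarDim1.maximalIdeal_notMem_minimalPrimes hdim (le_antisymm hle this ▸ hminfin.mem_toFinset.1 hp))
    exact ⟨g, hgm, VarDim1.mem_nonZeroDivisors_of_forall_notMem fun p hp => hg p (hminfin.mem_toFinset.2 hp)⟩
  have hreg : ∀ z ∈ nonZeroDivisors A, algebraMap A A' z ∈ nonZeroDivisors A' := by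
    intro z hz
    rw [mem_nonZeroDivisors_iff_right]
    intro x hx
    refine Subtype.ext ((IsLocalization.map_units L ⟨z, hz⟩).mul_left_eq_zero.1 ?_)
    simpa using congrArg Subtype.val hx
  -- primes of the normalisation
  have hminmax : ∀ q : Ideal A', q.IsPrime → q ∈ minimalPrimes A' ∨ q.IsMaximal := by
    intro q hq
    refine or_iff_not_imp_left.2 fun hq' => ?_
    obtain ⟨p, hp, hpq⟩ := Ideal.exists_minimalPrimes_le (bot_le : (⊥ : Ideal A') ≤ q)
    haveI := hp.1.1
    have hlt : p < q := lt_of_le_of_ne hpq fun e => hq' (e ▸ hp)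
    obtain ⟨x, hxq, hxp⟩ := SetLike.exists_of_lt hlt
    obtain ⟨P, hPm, hP⟩ := Algebra.IsIntegral.isIntegral (R := A) x
    have hne : P.map (Ideal.Quotient.mk (p.comap (algebraMap A A'))) ≠ 0 :=
      (hPm.map _).ne_zero
    have hlt' := Ideal.comap_lt_comap_of_root_mem_sdiff (f := algebraMap A A') hlt.le ⟨hxq, hxp⟩ hne
      (by rw [hP]; exact p.zero_mem)
    haveI : (q.comap (algebraMap A A')).IsPrime := Ideal.comap_isPrime _ _
    haveI : (p.comap (algebraMap A A')).IsPrime := Ideal.comap_isPrime _ _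
    have hqmax : q.comap (algebraMap A A') = IsLocalRing.maximalIdeal A := by
      rcases VarDim1.eq_maximalIdeal_or_mem_minimalPrimes hdim (q.comap (algebraMap A A')) with h | h
      · exact h
      · exact absurd (h.2 ⟨inferInstance, bot_le⟩ hlt'.le) (not_le_of_gt hlt')
    exact Ideal.isMaximal_of_isIntegral_of_isMaximal_comap q (hqmax ▸ IsLocalRing.maximalIdeal.isMaximal A)
  have hMg : ∀ M : MaximalSpectrum A', algebraMap A A' g ∈ M.asIdeal := fun M => by
    have := IsLocalRing.eq_maximalIdeal (Ideal.isMaximal_comap_of_isIntegral_of_isMaximal (R := A) M.asIdeal)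
    show g ∈ M.asIdeal.comap (algebraMap A A')
    rwa [this]
  have hMmin : ∀ M : MaximalSpectrum A', M.asIdeal ∉ minimalPrimes A' := fun M h =>
    Set.disjoint_left.1 (Ideal.disjoint_nonZeroDivisors_of_mem_minimalPrimes h) (hMg M) (hreg g hg)
  haveI : Finite (MaximalSpectrum A') := by
    haveI := (Ideal.finite_minimalPrimes_of_isNoetherianRing A' (Ideal.span {algebraMap A A' g})).to_subtype
    refine Finite.of_injective (fun M : MaximalSpectrum A' =>
      (⟨M.asIdeal, ?_⟩ : (Ideal.span {algebraMap A A' g}).minimalPrimes)) ?_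
    · refine ⟨⟨M.isMaximal.isPrime, (Ideal.span_singleton_le_iff_mem _).2 (hMg M)⟩, fun q ⟨hq, hgq⟩ hle => ?_⟩
      rcases hminmax q hq with h | h
      · exact absurd (hreg g hg)
          (Set.disjoint_left.1 (Ideal.disjoint_nonZeroDivisors_of_mem_minimalPrimes h)
            (hgq (Ideal.mem_span_singleton_self _)))
      · exact (h.eq_of_le M.isMaximal.ne_top hle).ge
    · intro M M' h
      exact MaximalSpectrum.ext (congrArg Subtype.val h)
  cases nonempty_fintype (MaximalSpectrum A')
  refine ⟨Fintype.card (MaximalSpectrum A'), ?_, ?_⟩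
  · rw [VarNorm.numBranches_eq A L hminfin, ENat.card_eq_coe_fintype_card]
  -- the localisations are discrete valuation rings
  have hres : ∀ (M : MaximalSpectrum A') (x : A'), ∃ a : k, x - algebraMap k A' a ∈ M.asIdeal := by
    intro M x
    letI : Field (A' ⧸ M.asIdeal) := Ideal.Quotient.field _
    let f : R →+* A' ⧸ M.asIdeal := (Ideal.Quotient.mk M.asIdeal).comp
      ((algebraMap A A').comp (algebraMap R A))
    have hfm : ∀ r ∈ m, f r = 0 := fun r hr => by
      refine Ideal.Quotient.eq_zero_iff_mem.2 ?_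
      show algebraMap R A r ∈ M.asIdeal.comap (algebraMap A A')
      rw [IsLocalRing.eq_maximalIdeal (Ideal.isMaximal_comap_of_isIntegral_of_isMaximal (R := A) M.asIdeal)]
      exact (IsLocalization.AtPrime.to_map_mem_maximal_iff A m r).2 hr
    haveI : Module.Finite k (A' ⧸ M.asIdeal) := by
      haveI : Module.Finite A (A' ⧸ M.asIdeal) :=
        Module.Finite.of_surjective (Ideal.Quotient.mkₐ A M.asIdeal).toLinearMap Ideal.Quotient.mk_surjective
      obtain ⟨T, hT⟩ := Module.Finite.fg_top (R := A) (M := A' ⧸ M.asIdeal)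
      refine ⟨⟨T, eq_top_iff.2 fun z hz' => ?_⟩⟩
      clear hz'
      have hz : z ∈ Submodule.span A (T : Set (A' ⧸ M.asIdeal)) := hT ▸ Submodule.mem_top
      induction hz using Submodule.span_induction with
      | mem w hw => exact Submodule.subset_span hw
      | zero => exact zero_mem _
      | add _ _ _ _ h h' => exact add_mem h h'
      | smul a w _ hw =>
        obtain ⟨r, t, rfl⟩ := IsLocalization.exists_mk'_eq m.primeCompl a
        obtain ⟨c, hc⟩ := exists_sub_algebraMap_mem (k := k) m r
        obtain ⟨e, he⟩ := exists_sub_algebraMap_mem (k := k) m (t : R)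
        have hsplit : ∀ (y : R) (c : k), y - algebraMap k R c ∈ m →
            algebraMap A (A' ⧸ M.asIdeal) (algebraMap R A y) = algebraMap k (A' ⧸ M.asIdeal) c := by
          intro y c hy
          have := hfm _ hy
          rw [map_sub, sub_eq_zero] at this
          refine this.trans ?_
          show Ideal.Quotient.mk M.asIdeal (algebraMap A A' (algebraMap R A (algebraMap k R c))) = _
          rw [← IsScalarTower.algebraMap_apply k R A, ← IsScalarTower.algebraMap_apply k A A']
          rfl
        have hne : e ≠ 0 := by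
          rintro rfl
          exact t.2 (by simpa using he)
        have : algebraMap A (A' ⧸ M.asIdeal) (IsLocalization.mk' A r t) = algebraMap k _ (c / e) := by
          refine mul_right_cancel₀ (b := algebraMap k (A' ⧸ M.asIdeal) e) (by simpa using hne) ?_
          rw [← map_mul, div_mul_cancel₀ _ hne, ← hsplit _ _ he, ← map_mul, IsLocalization.mk'_spec, hsplit _ _ hc]
        rw [Algebra.smul_def, this, ← Algebra.smul_def]
        exact Submodule.smul_mem _ _ hw
    obtain ⟨a, ha⟩ := (IsAlgClosed.algebraMap_bijective_of_isIntegral (k := k) (K := A' ⧸ M.asIdeal)).2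
      (Ideal.Quotient.mk M.asIdeal x)
    exact ⟨a, Ideal.Quotient.eq.1 ha.symm⟩
  have hdvr : ∀ M : MaximalSpectrum A',
      ∃ ψ : A' →ₐ[k] PowerSeries k,
        (∀ (x : A') (N : ℕ), (PowerSeries.X : PowerSeries k) ^ N ∣ ψ x ↔ x ∈ M.asIdeal ^ N) ∧
        (∀ x ∈ nonZeroDivisors A', ψ x ≠ 0) ∧
        (∀ x y : A', ψ y ≠ 0 → ψ y ∣ ψ x → ∃ u ∉ M.asIdeal, y ∣ u * x) ∧
        ∀ (f : PowerSeries k) (N : ℕ), ∃ x : A', (PowerSeries.X : PowerSeries k) ^ N ∣ ψ x - f := by
    intro M
    let D := Localization.AtPrime M.asIdeal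
    haveI : IsReduced D := isReduced_localizationPreserves M.asIdeal.primeCompl D inferInstance
    have hDmin : ∀ q : Ideal D, q.IsPrime → q ≠ M.asIdeal.map (algebraMap A' D) → q ∈ minimalPrimes D := by
      intro q hq hne
      obtain ⟨h1, h2⟩ := (IsLocalization.isPrime_iff_isPrime_disjoint M.asIdeal.primeCompl D q).1 hq
      rcases hminmax _ h1 with h | h
      · refine ⟨⟨hq, bot_le⟩, fun q' ⟨hq', _⟩ hle => ?_⟩
        have := h.2 ⟨((IsLocalization.isPrime_iff_isPrime_disjoint M.asIdeal.primeCompl D q').1 hq').1, bot_le⟩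
          (Ideal.comap_mono hle)
        rw [← IsLocalization.map_under M.asIdeal.primeCompl D q]
        exact (Ideal.map_mono this).trans_eq (IsLocalization.map_under M.asIdeal.primeCompl D q')
      · refine absurd ?_ hne
        have heq := h.eq_of_le M.isMaximal.ne_top (fun z hz => by_contra fun hzM => Set.disjoint_left.1 h2 hzM hz)
        rw [← IsLocalization.map_under M.asIdeal.primeCompl D q]
        exact congrArg _ heq
    haveI : Ring.KrullDimLE 1 D := Ring.krullDimLE_one_iff.2 fun q hq => by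
      by_cases hne : q = M.asIdeal.map (algebraMap A' D)
      · exact Or.inr (by rw [hne, Localization.AtPrime.map_eq_maximalIdeal]; exact IsLocalRing.maximalIdeal.isMaximal D)
      · exact Or.inl (hDmin q hq hne)
    have hgD : algebraMap A' D (algebraMap A A' g) ∈ nonZeroDivisors D :=
      IsLocalization.nonZeroDivisors_le_comap M.asIdeal.primeCompl D (hreg g hg)
    have hDdim : ringKrullDim D = 1 := by
      refine le_antisymm (Ring.krullDimLE_iff.1 inferInstance) ?_
      by_contra h
      haveI : Ring.KrullDimLE 0 D := Ring.krullDimLE_iff.2 (by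
        rw [not_le] at h
        exact Order.le_of_lt_succ h)
      have hmin : IsLocalRing.maximalIdeal D ∈ minimalPrimes D := by
        refine ⟨⟨inferInstance, bot_le⟩, fun q ⟨hq, _⟩ hle => ?_⟩
        exact ((Ring.krullDimLE_zero_iff.1 inferInstance q hq).eq_of_le (Ideal.IsPrime.ne_top inferInstance) hle).ge
      refine Set.disjoint_left.1 (Ideal.disjoint_nonZeroDivisors_of_mem_minimalPrimes hmin) ?_ hgD
      exact (IsLocalization.AtPrime.to_map_mem_maximal_iff D M.asIdeal _).2 (hMg M)
    obtain ⟨hdom, hdvr⟩ := NagaNorm57.isDVR_of_dvd (R := D) hDdim fun x s hs P hP h =>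
      NagaNorm57.dvd_of_integral A'.val.toRingHom Subtype.val_injective
        (fun b hb => ⟨⟨b, isIntegral_trans (R := A) (A := A') b (by
          obtain ⟨Q, hQ, hQb⟩ := hb
          exact ⟨Q, hQ, hQb⟩)⟩, rfl⟩)
        M.asIdeal D
        (fun s hs => by
          obtain ⟨v, hv⟩ : ∃ v : L, (s : L) * v * (s : L) = s := by
            let w := VarDim1.toComp A s
            obtain ⟨v, hv⟩ := VarDim1.toComp_surjective (A := A) fun p => (w p)⁻¹
            refine ⟨v, VarDim1.toComp_injective ?_⟩
            rw [map_mul, map_mul, hv]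
            funext p
            show w p * (w p)⁻¹ * w p = w p
            exact mul_inv_mul_cancel _
          have hid : ((s : L) * v) ^ 2 = (s : L) * v := by linear_combination v * hv
          let ε : A' := ⟨(s : L) * v, ⟨Polynomial.X ^ 2 - Polynomial.X, Polynomial.monic_X_pow_sub (by simp),
            by simp [hid]⟩⟩
          refine ⟨ε, fun hε => ?_, v, rfl⟩
          obtain ⟨q, hq, hqM⟩ := Ideal.exists_minimalPrimes_le (bot_le : (⊥ : Ideal A') ≤ M.asIdeal)
          haveI := hq.1.1
          refine hs q hq.1.1 (lt_of_le_of_ne hqM fun e => hMmin M (e ▸ hq)) ?_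
          have hz : s * (1 - ε) = 0 := Subtype.ext (by simp [ε]; linear_combination -hv)
          refine ((hq.1.1.mem_or_mem (show s * (1 - ε) ∈ q by rw [hz]; exact q.zero_mem)).resolve_right ?_)
          intro h1
          exact M.isMaximal.ne_top ((Ideal.eq_top_iff_one _).2 (by simpa using M.asIdeal.add_mem (hqM h1) hε)))
        hDmin x s hs P hP h
    haveI := hdom
    haveI := hdvr
    have hD : ∀ z : D, ∃ a : k, z - algebraMap k D a ∈ IsLocalRing.maximalIdeal D := by
      intro z
      obtain ⟨x, t, rfl⟩ := IsLocalization.exists_mk'_eq M.asIdeal.primeCompl z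
      obtain ⟨a, ha⟩ := hres M x
      obtain ⟨b, hb⟩ := hres M t
      have hb0 : b ≠ 0 := by
        rintro rfl
        exact t.2 (by simpa using hb)
      refine ⟨a / b, ?_⟩
      have ht : algebraMap A' D t ∉ IsLocalRing.maximalIdeal D := fun h =>
        t.2 ((IsLocalization.AtPrime.to_map_mem_maximal_iff D M.asIdeal _).1 h)
      refine ((IsLocalRing.maximalIdeal.isMaximal D).isPrime.mem_or_mem (x := algebraMap A' D t) ?_).resolve_left ht
      have e : algebraMap A' D t * (IsLocalization.mk' D x t - algebraMap k D (a / b)) =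
          algebraMap A' D (x - (t : A') * algebraMap k A' (a / b)) := by
        rw [map_sub, map_mul, ← IsLocalization.mk'_spec' D x t, ← IsScalarTower.algebraMap_apply]
        ring
      rw [e, IsLocalization.AtPrime.to_map_mem_maximal_iff D M.asIdeal]
      have : x - (t : A') * algebraMap k A' (a / b) =
          (x - algebraMap k A' a) - ((t : A') - algebraMap k A' b) * algebraMap k A' (a / b) := by
        rw [sub_mul, ← map_mul, mul_div_cancel₀ _ hb0]; ring
      rw [this]
      exact sub_mem ha (Ideal.mul_mem_right _ _ hb)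
    obtain ⟨ψ, hψ, hψs, hψ0⟩ := exists_expansion (k := k) (D := D) hD
    have hpow : ∀ (x : A') (N : ℕ), algebraMap A' D x ∈ IsLocalRing.maximalIdeal D ^ N ↔ x ∈ M.asIdeal ^ N := by
      intro x N
      rw [← Localization.AtPrime.map_eq_maximalIdeal, ← Ideal.map_pow,
        IsLocalization.algebraMap_mem_map_algebraMap_iff M.asIdeal.primeCompl]
      refine ⟨fun ⟨u, hu, hux⟩ => ?_, fun hx => ⟨1, M.asIdeal.primeCompl.one_mem, by rwa [one_mul]⟩⟩
      rcases Nat.eq_zero_or_pos N with rfl | hN
      · simp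
      have hcop : Ideal.span {u} ⊔ M.asIdeal ^ N = ⊤ := by
        rw [sup_comm]
        refine Ideal.pow_sup_eq_top (sup_eq_top_of_not_le M.isMaximal fun hle => ?_)
        exact hu (hle (Ideal.mem_span_singleton_self u))
      obtain ⟨y, hy, z, hz, hyz⟩ := Submodule.mem_sup.1 ((Ideal.eq_top_iff_one _).1 hcop)
      obtain ⟨w, rfl⟩ := Ideal.mem_span_singleton'.1 hy
      have : x = w * (u * x) + z * x := by linear_combination -x * hyz
      rw [this]
      exact add_mem (Ideal.mul_mem_left _ _ hux) (Ideal.mul_mem_right _ _ hz)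
    refine ⟨ψ.comp (IsScalarTower.toAlgHom k A' D), fun x N => (hψ _ N).trans (hpow x N), fun x hx h => ?_,
      fun x y hy hxy => ?_, fun f N => ?_⟩
    · have h0 : algebraMap A' D x = 0 := hψ0 _ h
      obtain ⟨u, hu⟩ := (IsLocalization.map_eq_zero_iff M.asIdeal.primeCompl D x).1 h0
      exact u.2 ((mem_nonZeroDivisors_iff_right.1 hx _ hu) ▸ M.asIdeal.zero_mem)
    · have hy' : algebraMap A' D y ≠ 0 := fun h => hy (by
        show ψ (algebraMap A' D y) = 0
        rw [h, map_zero])
      have : algebraMap A' D y ∣ algebraMap A' D x := by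
        obtain ⟨π, hπ⟩ := IsDiscreteValuationRing.exists_irreducible D
        obtain ⟨e, v, he⟩ := IsDiscreteValuationRing.eq_unit_mul_pow_irreducible hy' hπ
        have h1 : (PowerSeries.X : PowerSeries k) ^ e ∣ ψ (algebraMap A' D y) :=
          (hψ _ e).2 (by rw [he, hπ.maximalIdeal_eq, Ideal.span_singleton_pow]; exact Ideal.mem_span_singleton.2 (dvd_mul_left _ _))
        have h2 := (hψ _ e).1 (h1.trans hxy)
        rw [hπ.maximalIdeal_eq, Ideal.span_singleton_pow, Ideal.mem_span_singleton] at h2
        rwa [he, IsUnit.mul_left_dvd v.isUnit]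
      obtain ⟨q, hq⟩ := this
      obtain ⟨w, t, rfl⟩ := IsLocalization.exists_mk'_eq M.asIdeal.primeCompl q
      have h3 : algebraMap A' D ((t : A') * x) = algebraMap A' D (y * w) := by
        rw [map_mul, map_mul, hq, ← mul_assoc, mul_comm (algebraMap A' D t) (algebraMap A' D y), mul_assoc,
          IsLocalization.mk'_spec']
      obtain ⟨v, hv⟩ := (IsLocalization.eq_iff_exists M.asIdeal.primeCompl D).1 h3
      exact ⟨v * t, fun h => (M.isMaximal.isPrime.mem_or_mem h).elim v.2 t.2,
        ⟨v * w, by linear_combination hv⟩⟩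
    · obtain ⟨z, hz⟩ := hψs f N
      obtain ⟨x, t, rfl⟩ := IsLocalization.exists_mk'_eq M.asIdeal.primeCompl z
      have hcop : Ideal.span {(t : A')} ⊔ M.asIdeal ^ N = ⊤ := by
        rw [sup_comm]
        exact Ideal.pow_sup_eq_top (sup_eq_top_of_not_le M.isMaximal fun hle =>
          t.2 (hle (Ideal.mem_span_singleton_self _)))
      obtain ⟨y, hy, w, hw, hyw⟩ := Submodule.mem_sup.1 ((Ideal.eq_top_iff_one _).1 hcop)
      obtain ⟨v, rfl⟩ := Ideal.mem_span_singleton'.1 hy
      refine ⟨v * x, ?_⟩
      show _ ∣ ψ (algebraMap A' D (v * x)) - f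
      have h4 : algebraMap A' D (v * x) - IsLocalization.mk' D x t =
          algebraMap A' D (-w) * IsLocalization.mk' D x t := by
        have hyw' : v * (t : A') = 1 - w := by linear_combination hyw
        rw [map_mul, ← IsLocalization.mk'_spec' D x t, ← mul_assoc, ← map_mul, hyw', map_sub, map_one, map_neg]
        ring
      have h5 : (PowerSeries.X : PowerSeries k) ^ N ∣
          ψ (algebraMap A' D (v * x)) - ψ (IsLocalization.mk' D x t) := by
        rw [← map_sub, h4, map_mul]
        exact dvd_mul_of_dvd_left ((hψ _ N).2 ((hpow _ N).2 (neg_mem hw))) _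
      exact (dvd_add h5 hz).trans (dvd_of_eq (by ring))
  choose ψ hψ hψne hψdvd hψsurj using hdvr
  let e := (Fintype.equivFin (MaximalSpectrum A')).symm
  let toA' : R →ₐ[k] A' := (IsScalarTower.toAlgHom k A A').comp (IsScalarTower.toAlgHom k R A)
  let φ : R →ₐ[k] (Fin (Fintype.card (MaximalSpectrum A')) → PowerSeries k) :=
    AlgHom.pi fun i => (ψ (e i)).comp toA'
  -- the conductor
  obtain ⟨c₀, hc₀, hc₀A⟩ : ∃ c₀ ∈ nonZeroDivisors A, ∀ x : A', ∃ a : A, algebraMap A A' a = algebraMap A A' c₀ * x := by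
    obtain ⟨T, hT⟩ := Module.Finite.fg_top (R := A) (M := A')
    obtain ⟨⟨c₀, hc₀⟩, hcT⟩ := IsLocalization.exist_integer_multiples (nonZeroDivisors A) T fun x : A' => (x : L)
    refine ⟨c₀, hc₀, fun x => ?_⟩
    have hx : x ∈ Submodule.span A (T : Set A') := hT ▸ Submodule.mem_top
    induction hx using Submodule.span_induction with
    | mem w hw =>
      obtain ⟨a, ha⟩ := hcT w hw
      exact ⟨a, Subtype.ext (by simpa [Algebra.smul_def] using ha)⟩
    | zero => exact ⟨0, by simp⟩
    | add _ _ _ _ h h' =>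
      obtain ⟨a, ha⟩ := h
      obtain ⟨b, hb⟩ := h'
      exact ⟨a + b, by rw [map_add, mul_add, ha, hb]⟩
    | smul r w _ h =>
      obtain ⟨a, ha⟩ := h
      exact ⟨r * a, by rw [map_mul, ha, Algebra.smul_def]; ring⟩
  have hord : ∀ y : A', y ∈ nonZeroDivisors A' → ∃ N : ℕ, ∀ (M : MaximalSpectrum A') (h : PowerSeries k),
      (PowerSeries.X : PowerSeries k) ^ N ∣ h → ψ M y ∣ h := by
    intro y hy
    refine ⟨Finset.univ.sup fun M => (ψ M y).order.toNat, fun M h hh => ?_⟩
    have hu := PowerSeries.isUnit_divided_by_X_pow_order (hψne M y hy)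
    conv_lhs => rw [← PowerSeries.X_pow_order_mul_divXPowOrder (f := ψ M y)]
    rw [IsUnit.mul_right_dvd hu]
    exact (pow_dvd_pow _ (Finset.le_sup (f := fun M => (ψ M y).order.toNat) (Finset.mem_univ M))).trans hh
  obtain ⟨c, hc⟩ := hord _ (hreg c₀ hc₀)
  have hloc : ∀ x y : A', (∀ M : MaximalSpectrum A', ψ M y ≠ 0 ∧ ψ M y ∣ ψ M x) → y ∣ x := by
    intro x y h
    let I : Ideal A' := (Ideal.span {y}).colon {x}
    suffices I = ⊤ by
      have := (Ideal.eq_top_iff_one _).1 this
      rw [Submodule.mem_colon_singleton] at this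
      exact Ideal.mem_span_singleton.1 (by simpa using this)
    by_contra hI
    obtain ⟨M, hM, hIM⟩ := Ideal.exists_le_maximal I hI
    obtain ⟨u, hu, hux⟩ := hψdvd ⟨M, hM⟩ x y (h ⟨M, hM⟩).1 (h ⟨M, hM⟩).2
    refine hu (hIM ?_)
    rw [Submodule.mem_colon_singleton, smul_eq_mul]
    exact Ideal.mem_span_singleton.2 hux
  have hRA : ∀ (a : A) (N : ℕ), ∃ r : R, a - algebraMap R A r ∈ IsLocalRing.maximalIdeal A ^ N := by
    intro a N
    obtain ⟨r, t, rfl⟩ := IsLocalization.exists_mk'_eq m.primeCompl a
    have hcop : Ideal.span {(t : R)} ⊔ m ^ N = ⊤ := by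
      rw [sup_comm]
      exact Ideal.pow_sup_eq_top (sup_eq_top_of_not_le ‹m.IsMaximal› fun hle =>
        t.2 (hle (Ideal.mem_span_singleton_self _)))
    obtain ⟨y, hy, w, hw, hyw⟩ := Submodule.mem_sup.1 ((Ideal.eq_top_iff_one _).1 hcop)
    obtain ⟨v, rfl⟩ := Ideal.mem_span_singleton'.1 hy
    refine ⟨v * r, ?_⟩
    have hyw' : algebraMap R A v * algebraMap R A t = 1 - algebraMap R A w := by
      rw [← map_mul, ← map_one (algebraMap R A), ← map_sub]
      exact congrArg _ (by linear_combination hyw)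
    have : IsLocalization.mk' A r t - algebraMap R A (v * r) = algebraMap R A w * IsLocalization.mk' A r t := by
      have h := IsLocalization.mk'_spec' A r t
      rw [map_mul]
      linear_combination algebraMap R A v * h - IsLocalization.mk' A r t * hyw'
    rw [this]
    refine Ideal.mul_mem_right _ _ ?_
    rw [← IsLocalization.AtPrime.map_eq_maximalIdeal m A, ← Ideal.map_pow]
    exact Ideal.mem_map_of_mem _ hw
  have hmpow : ∀ (a : A) (N : ℕ), a ∈ IsLocalRing.maximalIdeal A ^ N →
      ∀ M : MaximalSpectrum A', (PowerSeries.X : PowerSeries k) ^ N ∣ ψ M (algebraMap A A' a) := by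
    intro a N ha M
    rw [hψ M]
    have h1 : (IsLocalRing.maximalIdeal A).map (algebraMap A A') ≤ M.asIdeal := by
      rw [Ideal.map_le_iff_le_comap,
        IsLocalRing.eq_maximalIdeal (Ideal.isMaximal_comap_of_isIntegral_of_isMaximal (R := A) M.asIdeal)]
    refine Ideal.pow_right_mono h1 N ?_
    rw [← Ideal.map_pow]
    exact Ideal.mem_map_of_mem _ ha
  refine ⟨{
    φ := φ
    c := c
    pos := Fintype.card_pos_iff.2 (by
      obtain ⟨M, hM⟩ := Ideal.exists_maximal A'
      exact ⟨⟨M, hM⟩⟩)
    mem_iff := fun r => ?_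
    approx := fun f hf N => ?_
    small := fun d => ?_ }⟩
  · constructor
    · intro hr i
      have := hmpow (algebraMap R A r) 1 (by
        rw [pow_one]; exact (IsLocalization.AtPrime.to_map_mem_maximal_iff A m r).2 hr) (e i)
      rw [pow_one] at this
      exact this
    · intro h
      obtain ⟨M, hM⟩ := Ideal.exists_maximal A'
      have h1 : (PowerSeries.X : PowerSeries k) ^ 1 ∣ ψ ⟨M, hM⟩ (toA' r) := by
        rw [pow_one]
        simpa [φ] using h (e.symm ⟨M, hM⟩)
      rw [hψ, pow_one] at h1
      have h2 : algebraMap R A r ∈ M.comap (algebraMap A A') := h1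
      rw [IsLocalRing.eq_maximalIdeal (Ideal.isMaximal_comap_of_isIntegral_of_isMaximal (R := A) M)] at h2
      exact (IsLocalization.AtPrime.to_map_mem_maximal_iff A m r).1 h2
  · choose G hG using fun M => hc M _ (hf (e.symm M))
    choose X hX using fun M => hψsurj M (G M) N
    obtain ⟨z, hz⟩ : ∃ z : A', ∀ M : MaximalSpectrum A', z - X M ∈ M.asIdeal ^ N := by
      obtain ⟨z, hz⟩ := Ideal.pi_quotient_surjective (I := fun M : MaximalSpectrum A' => M.asIdeal ^ N)
        (fun M M' hne => (Ideal.isCoprime_iff_sup_eq.2 (M.isMaximal.coprime_of_ne M'.isMaximal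
          fun h => hne (MaximalSpectrum.ext h))).pow) fun M => Ideal.Quotient.mk _ (X M)
      exact ⟨z, fun M => Ideal.Quotient.eq.1 (hz M)⟩
    obtain ⟨a, ha⟩ := hc₀A z
    obtain ⟨r, hr⟩ := hRA a N
    refine ⟨r, fun i => ?_⟩
    obtain ⟨M, rfl⟩ := e.symm.surjective i
    have h1 := hmpow _ N hr M
    rw [map_sub, map_sub, ha] at h1
    have h2 := (hψ M _ N).2 (hz M)
    rw [map_sub] at h2
    have h3 : (PowerSeries.X : PowerSeries k) ^ N ∣ ψ M (algebraMap A A' c₀ * z) - f (e.symm M) := by
      rw [map_mul, hG M, ← mul_sub]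
      exact dvd_mul_of_dvd_right ((dvd_add h2 (hX M)).trans (dvd_of_eq (by ring))) _
    have : φ r (e.symm M) = ψ M (algebraMap A A' (algebraMap R A r)) := by simp [φ, toA']
    rw [this]
    exact (dvd_sub h3 h1).trans (dvd_of_eq (by ring))
  · have hgd : g ^ d * c₀ ∈ nonZeroDivisors A := mul_mem (pow_mem hg d) hc₀
    obtain ⟨N, hN⟩ := hord _ (hreg _ hgd)
    refine ⟨N, fun r hr => ?_⟩
    obtain ⟨w, hw⟩ : algebraMap A A' (g ^ d * c₀) ∣ algebraMap A A' (algebraMap R A r) :=
      hloc _ _ fun M => ⟨hψne M _ (hreg _ hgd), hN M _ (by simpa [φ, toA'] using hr (e.symm M))⟩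
    obtain ⟨a, ha⟩ := hc₀A w
    have h1 : algebraMap R A r = g ^ d * a := hA'inj (by rw [hw, map_mul, map_mul, ha]; ring)
    have h2 : algebraMap R A r ∈ (m ^ d).map (algebraMap R A) := by
      rw [h1, Ideal.map_pow, IsLocalization.AtPrime.map_eq_maximalIdeal m A]
      exact Ideal.mul_mem_right _ _ (Ideal.pow_mem_pow hgm d)
    obtain ⟨u, hu, hur⟩ := (IsLocalization.algebraMap_mem_map_algebraMap_iff m.primeCompl A (m ^ d) r).1 h2
    have hcop : Ideal.span {u} ⊔ m ^ d = ⊤ := by
      rw [sup_comm]
      exact Ideal.pow_sup_eq_top (sup_eq_top_of_not_le ‹m.IsMaximal› fun hle =>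
        hu (hle (Ideal.mem_span_singleton_self _)))
    obtain ⟨y, hy, z, hz, hyz⟩ := Submodule.mem_sup.1 ((Ideal.eq_top_iff_one _).1 hcop)
    obtain ⟨v, rfl⟩ := Ideal.mem_span_singleton'.1 hy
    have : r = v * (u * r) + z * r := by linear_combination -r * hyz
    rw [this]
    exact add_mem (Ideal.mul_mem_left _ _ hur) (Ideal.mul_mem_right _ _ hz)

end Groth.Agent.HilbCurve12
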