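import Mathlib.RingTheory.PowerSeries.Trunc
import Mathlib.RingTheory.DiscreteValuationRing.Basic
import Mathlib.Algebra.Polynomial.AlgebraMap
import Mathlib.RingTheory.LocalRing.ResidueField.Basic
import Mathlib.Algebra.Polynomial.Div
import Mathlib.RingTheory.Filtration

/-!
Power series expansions in a discrete valuation ring with trivial residue extension.
-/

set_option autoImplicit false
set_option linter.style.haveILetI false

universe u

open scoped Polynomial

noncomputable section

namespace Groth.Agent.HilbCurve12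

variable {k : Type u} [Field k] {D : Type u} [CommRing D] [IsDomain D] [IsDiscreteValuationRing D]
  [Algebra k D]

theorem pow_dvd_aeval_iff {π : D} (hπ : Irreducible π) (p : k[X]) (N : ℕ) :
    π ^ N ∣ Polynomial.aeval π p ↔ Polynomial.X ^ N ∣ p := by
  refine ⟨fun h => ?_, fun ⟨q, hq⟩ => ⟨Polynomial.aeval π q, by rw [hq, map_mul, map_pow, Polynomial.aeval_X]⟩⟩
  induction N generalizing p with
  | zero => simp
  | succ N ih =>
    have h0 : p.coeff 0 = 0 := by
      by_contra h0
      have h1 : π ∣ Polynomial.aeval π p := (dvd_pow_self π N.succ_ne_zero).trans h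
      have h2 : π ∣ Polynomial.aeval π p - algebraMap k D (p.coeff 0) := by
        obtain ⟨q, hq⟩ : Polynomial.X ∣ p - Polynomial.C (p.coeff 0) := Polynomial.X_dvd_iff.2 (by simp)
        refine ⟨Polynomial.aeval π q, ?_⟩
        have := congrArg (Polynomial.aeval π) hq
        simpa using this
      have h3 := (dvd_sub_right h1).1 h2
      exact hπ.not_isUnit (isUnit_of_dvd_unit h3 ((IsUnit.mk0 _ h0).map (algebraMap k D)))
    obtain ⟨q, rfl⟩ := Polynomial.X_dvd_iff.2 h0
    rw [map_mul, Polynomial.aeval_X, pow_succ'] at h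
    rw [pow_succ']
    exact mul_dvd_mul_left _ (ih q ((mul_dvd_mul_iff_left hπ.ne_zero).1 h))

theorem exists_aeval_congr {π : D} (hπ : Irreducible π)
    (hres : ∀ x : D, ∃ a : k, x - algebraMap k D a ∈ IsLocalRing.maximalIdeal D) (x : D) (N : ℕ) :
    ∃ p : k[X], π ^ N ∣ x - Polynomial.aeval π p := by
  induction N with
  | zero => exact ⟨0, by simp⟩
  | succ N ih =>
    obtain ⟨p, w, hw⟩ := ih
    obtain ⟨a, ha⟩ := hres w
    rw [hπ.maximalIdeal_eq, Ideal.mem_span_singleton] at ha
    obtain ⟨v, hv⟩ := ha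
    refine ⟨p + Polynomial.C a * Polynomial.X ^ N, v, ?_⟩
    simp only [map_add, map_mul, map_pow, Polynomial.aeval_X, Polynomial.aeval_C]
    linear_combination hw + π ^ N * hv

/-- Expansion of the elements of a discrete valuation ring in a uniformizer. -/
theorem exists_expansion (hres : ∀ x : D, ∃ a : k, x - algebraMap k D a ∈ IsLocalRing.maximalIdeal D) :
    ∃ ψ : D →ₐ[k] PowerSeries k,
      (∀ (x : D) (N : ℕ), (PowerSeries.X : PowerSeries k) ^ N ∣ ψ x ↔ x ∈ IsLocalRing.maximalIdeal D ^ N) ∧
      (∀ (f : PowerSeries k) (N : ℕ), ∃ x : D, (PowerSeries.X : PowerSeries k) ^ N ∣ ψ x - f) ∧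
      ∀ x : D, ψ x = 0 → x = 0 := by
  obtain ⟨π, hπ⟩ := IsDiscreteValuationRing.exists_irreducible D
  choose P hP using fun (x : D) (N : ℕ) => exists_aeval_congr hπ hres x N
  have huniq : ∀ (x : D) (N : ℕ) (p q : k[X]), π ^ N ∣ x - Polynomial.aeval π p →
      π ^ N ∣ x - Polynomial.aeval π q → Polynomial.X ^ N ∣ p - q := fun x N p q h1 h2 =>
    (pow_dvd_aeval_iff hπ (p - q) N).1 (by rw [map_sub]; simpa using dvd_sub h2 h1)
  let ψ : D → PowerSeries k := fun x => PowerSeries.mk fun n => (P x (n + 1)).coeff n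
  have hψ : ∀ (x : D) (N : ℕ) (p : k[X]), π ^ N ∣ x - Polynomial.aeval π p →
      (PowerSeries.X : PowerSeries k) ^ N ∣ ψ x - (p : PowerSeries k) := by
    intro x N p hp
    rw [PowerSeries.X_pow_dvd_iff]
    intro n hn
    have h1 := huniq x (n + 1) (P x (n + 1)) p (hP x (n + 1)) ((pow_dvd_pow π hn).trans hp)
    have h2 := Polynomial.X_pow_dvd_iff.1 h1 n (Nat.lt_succ_self n)
    simpa [ψ] using h2
  have hext : ∀ {f g : PowerSeries k},
      (∀ N : ℕ, (PowerSeries.X : PowerSeries k) ^ N ∣ f - g) → f = g := fun {f g} h =>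
    PowerSeries.ext fun n => sub_eq_zero.1 (by
      simpa using PowerSeries.X_pow_dvd_iff.1 (h (n + 1)) n (Nat.lt_succ_self n))
  let Ψ : D →ₐ[k] PowerSeries k :=
    { toFun := ψ
      map_one' := hext fun N => by simpa using hψ 1 N 1 (by simp)
      map_mul' := fun x y => hext fun N => by
        have h1 := hψ x N _ (hP x N)
        have h2 := hψ y N _ (hP y N)
        have h3 := hψ (x * y) N (P x N * P y N) (by
          have := dvd_add (dvd_mul_of_dvd_left (hP x N) y) (dvd_mul_of_dvd_right (hP y N) (Polynomial.aeval π (P x N)))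
          refine this.trans (dvd_of_eq ?_)
          rw [map_mul]; ring)
        have h4 := dvd_sub h3 (dvd_add (dvd_mul_of_dvd_left h1 (ψ y))
          (dvd_mul_of_dvd_right h2 (P x N : PowerSeries k)))
        refine h4.trans (dvd_of_eq ?_)
        rw [Polynomial.coe_mul]; ring
      map_zero' := hext fun N => by simpa using hψ 0 N 0 (by simp)
      map_add' := fun x y => hext fun N => by
        have h1 := hψ x N _ (hP x N)
        have h2 := hψ y N _ (hP y N)
        have h3 := hψ (x + y) N (P x N + P y N) (by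
          refine (dvd_add (hP x N) (hP y N)).trans (dvd_of_eq ?_)
          rw [map_add]; ring)
        refine (dvd_sub h3 (dvd_add h1 h2)).trans (dvd_of_eq ?_)
        rw [Polynomial.coe_add]; ring
      commutes' := fun c => hext fun N => by
        have := hψ (algebraMap k D c) N (Polynomial.C c) (by simp)
        rwa [Polynomial.coe_C, PowerSeries.C_eq_algebraMap] at this }
  have hmem : ∀ (x : D) (N : ℕ), (PowerSeries.X : PowerSeries k) ^ N ∣ Ψ x ↔
      x ∈ IsLocalRing.maximalIdeal D ^ N := fun x N => ?_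
  refine ⟨Ψ, hmem, fun f N => ?_, fun x hx => ?_⟩
  rotate_left 2
  · rw [hπ.maximalIdeal_eq, Ideal.span_singleton_pow, Ideal.mem_span_singleton]
    show (PowerSeries.X : PowerSeries k) ^ N ∣ ψ x ↔ _
    have h1 := hψ x N _ (hP x N)
    constructor
    · intro h
      have h2 : Polynomial.X ^ N ∣ P x N := by
        have h3 := (dvd_sub_right h).1 h1
        rw [Polynomial.X_pow_dvd_iff]
        intro n hn
        have := PowerSeries.X_pow_dvd_iff.1 h3 n hn
        rwa [Polynomial.coeff_coe] at this
      exact (dvd_sub_left ((pow_dvd_aeval_iff hπ _ N).2 h2)).1 (hP x N)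
    · intro h
      have := hψ x N 0 (by simpa using h)
      simpa using this
  · refine ⟨Polynomial.aeval π (PowerSeries.trunc N f), ?_⟩
    have h1 := hψ (Polynomial.aeval π (PowerSeries.trunc N f)) N (PowerSeries.trunc N f) (by simp)
    have h2 : (PowerSeries.X : PowerSeries k) ^ N ∣ (PowerSeries.trunc N f : PowerSeries k) - f := by
      rw [PowerSeries.X_pow_dvd_iff]
      intro n hn
      simp [PowerSeries.coeff_trunc, hn]
    refine (dvd_add h1 h2).trans (dvd_of_eq ?_)
    show _ = ψ _ - f
    ring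
  · have h0 : x ∈ ⨅ n : ℕ, IsLocalRing.maximalIdeal D ^ n :=
      Ideal.mem_iInf.2 fun n => (hmem x n).1 (by rw [hx]; exact dvd_zero _)
    rwa [Ideal.iInf_pow_eq_bot_of_isLocalRing _ (IsLocalRing.maximalIdeal.isMaximal D).ne_top, Ideal.mem_bot] at h0

end Groth.Agent.HilbCurve12
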