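import Groth.Agent.HilbZeta12.Series
import Groth.Agent.HilbZeta12.Points
import Groth.Agent.Grass5.HilbPush
import Mathlib.AlgebraicGeometry.Morphisms.Finite

/-!
The Hilbert scheme of points of an open subscheme inside that of the ambient scheme.
-/

set_option autoImplicit false
set_option linter.style.haveILetI false
set_option maxHeartbeats 1600000
set_option backward.isDefEq.respectTransparency false
set_option backward.isDefEq.respectTransparency.types false

universe u

open CategoryTheory CategoryTheory.Limits AlgebraicGeometry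

noncomputable section

namespace Groth.Agent.HilbCurve12

open Groth.Agent.Grass5.Hilb Groth.Agent.HilbZeta12

variable {U X S : Scheme.{u}} (i : U ⟶ X) (f : X ⟶ S) {T T' : Over S}

instance isOpenImmersion_incl [IsOpenImmersion i] : IsOpenImmersion (incl i f T) :=
  MorphismProperty.of_isPullback (P := @IsOpenImmersion) (isPullback_incl i f).flip (inferInstanceAs (IsOpenImmersion i))

theorem range_incl [IsOpenImmersion i] (z : PicF.XT f T) :
    z ∈ Set.range (incl i f T) ↔ pullback.fst f T.hom z ∈ Set.range i := by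
  constructor
  · rintro ⟨w, rfl⟩
    refine ⟨pullback.fst (i ≫ f) T.hom w, ?_⟩
    rw [← Scheme.Hom.comp_apply, ← Scheme.Hom.comp_apply, (isPullback_incl i f).w]
  · rintro ⟨u, hu⟩
    obtain ⟨p, hp, -⟩ := exists_point_of_isPullback (isPullback_incl i f) hu.symm
    exact ⟨p, hp⟩

/-- A family on the open subscheme seen on the ambient scheme. -/
def pushOpen (I : (PicF.XT (i ≫ f) T).IdealSheafData) : (PicF.XT f T).IdealSheafData :=
  (I.subschemeι ≫ incl i f T).ker

/-- A family on the ambient scheme restricted to the open subscheme. -/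
def restrOpen (J : (PicF.XT f T).IdealSheafData) : (PicF.XT (i ≫ f) T).IdealSheafData :=
  J.comap (incl i f T)

theorem restr_pull (J : (PicF.XT f T).IdealSheafData) (h : T' ⟶ T) :
    restrOpen i f (HilbD.pull f h J) = HilbD.pull (i ≫ f) h (restrOpen i f J) := by
  rw [restrOpen, restrOpen, pull_eq_comap, pull_eq_comap, ← Scheme.IdealSheafData.comap_comp, incl_XTmap,
    Scheme.IdealSheafData.comap_comp]

theorem isOpen_inFibre' {d : ℕ} (Z : HilbD.Obj f d T) {O : Set X} (hO : IsOpen O) :
    IsOpen {t : T.left | InFibre f O Z.1 t} := by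
  obtain ⟨⟨h1, -, -⟩, -⟩ := Z.2
  haveI := h1
  have : {t : T.left | InFibre f O Z.1 t} = (toT f Z.1 '' (toX f Z.1 ⁻¹' O)ᶜ)ᶜ := by
    ext t
    simp only [Set.mem_setOf_eq, Set.mem_compl_iff, Set.mem_image, not_exists, not_and, InFibre,
      Set.mem_preimage]
    exact ⟨fun h z hz e => hz (h z e), fun h z e => by_contra fun hz => h z hz e⟩
  rw [this]
  exact ((toT f Z.1).isClosedMap _ (hO.preimage (toX f Z.1).continuous).isClosed_compl).isOpen_compl

variable [IsOpenImmersion i]

theorem exists_restr_iso {J : (PicF.XT f T).IdealSheafData} (hJ : Within f (Set.range i) J) :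
    ∃ e : J.subscheme ≅ (restrOpen i f J).subscheme,
      e.hom ≫ (restrOpen i f J).subschemeι ≫ incl i f T = J.subschemeι := by
  let l : J.subscheme ⟶ PicF.XT (i ≫ f) T := IsOpenImmersion.lift (incl i f T) J.subschemeι (by
    rintro _ ⟨z, rfl⟩
    exact (range_incl i f _).2 (hJ z))
  have hl : l ≫ incl i f T = J.subschemeι := IsOpenImmersion.lift_fac _ _ _
  have hp : IsPullback l (𝟙 _) (incl i f T) J.subschemeι := by
    refine ⟨⟨by rw [hl, Category.id_comp]⟩, ⟨PullbackCone.IsLimit.mk _ (fun s => s.snd) (fun s => ?_)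
      (fun s => Category.comp_id _) (fun s m _ hm => ?_)⟩⟩
    · rw [← cancel_mono (incl i f T), Category.assoc, hl]
      exact s.condition.symm
    · simpa using hm
  haveI : IsClosedImmersion l :=
    MorphismProperty.of_isPullback (P := @IsClosedImmersion) hp.flip (inferInstanceAs (IsClosedImmersion J.subschemeι))
  have hker : restrOpen i f J = l.ker := by
    rw [restrOpen]
    conv_lhs => rw [← J.ker_subschemeι]
    rw [← Scheme.IdealSheafData.ker_fst_of_isClosedImmersion, ← hp.isoPullback_inv_fst,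
      Scheme.Hom.ker_comp_of_isIso]
  rw [hker]
  refine ⟨asIso l.toImage, ?_⟩
  rw [asIso_hom, ← Category.assoc]
  exact (congrArg (· ≫ incl i f T) l.toImage_imageι).trans hl

theorem push_restr {J : (PicF.XT f T).IdealSheafData} (hJ : Within f (Set.range i) J) :
    pushOpen i f (restrOpen i f J) = J := by
  obtain ⟨e, he⟩ := exists_restr_iso i f hJ
  rw [pushOpen, ← Scheme.Hom.ker_comp_of_isIso e.hom, he, Scheme.IdealSheafData.ker_subschemeι]

variable [IsSeparated f] {d : ℕ}

theorem isClosedImmersion_pushOpen (Z : HilbD.Obj (i ≫ f) d T) :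
    IsClosedImmersion (Z.1.subschemeι ≫ incl i f T) := by
  obtain ⟨⟨h1, -, -⟩, -⟩ := Z.2
  haveI : IsFinite ((Z.1.subschemeι ≫ incl i f T) ≫ PicF.XTproj f T) := by
    rw [Category.assoc, incl_proj]; exact h1
  haveI : IsFinite (Z.1.subschemeι ≫ incl i f T) :=
    IsFinite.of_comp (Z.1.subschemeι ≫ incl i f T) (PicF.XTproj f T)
  exact (IsClosedImmersion.iff_isFinite_and_mono _).2 ⟨inferInstance, inferInstance⟩

theorem exists_push_iso (Z : HilbD.Obj (i ≫ f) d T) :
    ∃ e : Z.1.subscheme ≅ (pushOpen i f Z.1).subscheme,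
      e.hom ≫ (pushOpen i f Z.1).subschemeι = Z.1.subschemeι ≫ incl i f T := by
  haveI := isClosedImmersion_pushOpen i f Z
  exact ⟨asIso (Z.1.subschemeι ≫ incl i f T).toImage, (Z.1.subschemeι ≫ incl i f T).toImage_imageι⟩

theorem deg_congr {A B : Scheme.{u}} (e : A ≅ B) {p : A ⟶ T.left} {q : B ⟶ T.left} (h : e.hom ≫ q = p) :
    Mor2.IsFinLocFreeOfDeg d p ↔ Mor2.IsFinLocFreeOfDeg d q := by
  constructor
  · intro hp
    exact finLocFreeOfDeg_isPullback (fst := e.inv) (g := 𝟙 T.left)
      (IsPullback.of_horiz_isIso ⟨by rw [Category.comp_id, ← h, Iso.inv_hom_id_assoc]⟩) hp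
  · intro hq
    exact finLocFreeOfDeg_isPullback (fst := e.hom) (g := 𝟙 T.left)
      (IsPullback.of_horiz_isIso ⟨by rw [Category.comp_id, h]⟩) hq

/-- A family on the open subscheme as a family on the ambient scheme. -/
def objPushOpen (Z : HilbD.Obj (i ≫ f) d T) : HilbD.Obj f d T :=
  ⟨pushOpen i f Z.1, by
    obtain ⟨e, he⟩ := exists_push_iso i f Z
    exact (deg_congr e (by rw [← Category.assoc, he, Category.assoc, incl_proj])).1 Z.2⟩

theorem within_pushOpen (Z : HilbD.Obj (i ≫ f) d T) : Within f (Set.range i) (pushOpen i f Z.1) := by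
  obtain ⟨e, he⟩ := exists_push_iso i f Z
  intro z
  show pullback.fst f T.hom ((pushOpen i f Z.1).subschemeι z) ∈ _
  refine (range_incl i f _).1 ?_
  obtain ⟨w, rfl⟩ := e.hom.surjective z
  rw [← Scheme.Hom.comp_apply, he, Scheme.Hom.comp_apply]
  exact ⟨_, rfl⟩

theorem restr_push (Z : HilbD.Obj (i ≫ f) d T) : restrOpen i f (pushOpen i f Z.1) = Z.1 := by
  obtain ⟨e, he⟩ := exists_push_iso i f Z
  obtain ⟨e', he'⟩ := exists_restr_iso i f (within_pushOpen i f Z)
  have : (e.hom ≫ e'.hom) ≫ (restrOpen i f (pushOpen i f Z.1)).subschemeι = Z.1.subschemeι := by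
    rw [← cancel_mono (incl i f T), Category.assoc, Category.assoc, he', he]
  calc restrOpen i f (pushOpen i f Z.1) = (restrOpen i f (pushOpen i f Z.1)).subschemeι.ker :=
        (Scheme.IdealSheafData.ker_subschemeι _).symm
    _ = ((e.hom ≫ e'.hom) ≫ (restrOpen i f (pushOpen i f Z.1)).subschemeι).ker :=
        (Scheme.Hom.ker_comp_of_isIso _ _).symm
    _ = Z.1 := by rw [this, Scheme.IdealSheafData.ker_subschemeι]

theorem inFibre_restr {J : (PicF.XT f T).IdealSheafData} (hJ : Within f (Set.range i) J) (P : Set U)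
    (t : T.left) : InFibre (i ≫ f) P (restrOpen i f J) t ↔ InFibre f (i '' P) J t := by
  obtain ⟨e, he⟩ := exists_restr_iso i f hJ
  have hX : ∀ z, toX f J z = i (toX (i ≫ f) (restrOpen i f J) (e.hom z)) := fun z => by
    simp only [toX, ← Scheme.Hom.comp_apply, Category.assoc]
    rw [← he]
    simp [incl]
  have hT : ∀ z, toT f J z = toT (i ≫ f) (restrOpen i f J) (e.hom z) := fun z => by
    simp only [toT, ← Scheme.Hom.comp_apply]
    rw [← he, Category.assoc, Category.assoc, incl_proj]
  constructor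
  · intro h z hz
    rw [hX]
    exact ⟨_, h _ ((hT z).symm.trans hz), rfl⟩
  · intro h w hw
    obtain ⟨z, rfl⟩ := e.hom.surjective w
    obtain ⟨u, hu, hu'⟩ := h z ((hT z).trans hw)
    rw [hX] at hu'
    rwa [← i.isOpenEmbedding.injective hu']

/-- **The Hilbert scheme of points of an open subscheme.** -/
theorem exists_open_hilb {H : Over S} (Z : HilbD.Obj f d H) (hZ : HilbD.IsUniversal f d H Z) :
    ∃ (H' : Over S) (j : H' ⟶ H) (Z' : HilbD.Obj (i ≫ f) d H'), IsOpenImmersion j.left ∧
      HilbD.IsUniversal (i ≫ f) d H' Z' ∧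
      Set.range j.left = {h | InFibre f (Set.range i) Z.1 h} ∧
      ∀ (P : Set U) (t : H'.left), InFibre (i ≫ f) P Z'.1 t ↔ InFibre f (i '' P) Z.1 (j.left t) := by
  let O : H.left.Opens :=
    ⟨{h | InFibre f (Set.range i) Z.1 h}, isOpen_inFibre' f Z i.isOpenEmbedding.isOpen_range⟩
  let H' : Over S := Over.mk (O.ι ≫ H.hom)
  let j : H' ⟶ H := Over.homMk O.ι rfl
  have hr : Set.range j.left = {h | InFibre f (Set.range i) Z.1 h} := Scheme.Opens.range_ι O
  have hW : Within f (Set.range i) (objPull j Z).1 :=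
    (within_pull_iff f _ _).2 fun t => hr.le ⟨t, rfl⟩
  let Z' : HilbD.Obj (i ≫ f) d H' := ⟨restrOpen i f (objPull j Z).1, by
    obtain ⟨e, he⟩ := exists_restr_iso i f hW
    exact (deg_congr e (by rw [← he, Category.assoc, Category.assoc, incl_proj])).1 (objPull j Z).2⟩
  refine ⟨H', j, Z', inferInstanceAs (IsOpenImmersion O.ι), fun T W => ?_, hr, fun P t => ?_⟩
  · obtain ⟨g, hg, -⟩ := hZ T (objPushOpen i f W)
    have hgO : Set.range g.left ⊆ Set.range O.ι := by
      rintro _ ⟨t, rfl⟩
      rw [Scheme.Opens.range_ι]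
      have := within_pushOpen i f W
      rw [show pushOpen i f W.1 = HilbD.pull f g Z.1 from hg.symm, within_pull_iff] at this
      exact this t
    let h : T ⟶ H' := Over.homMk (IsOpenImmersion.lift O.ι g.left hgO) (by
      show _ ≫ O.ι ≫ H.hom = _
      rw [IsOpenImmersion.lift_fac_assoc]
      exact Over.w g)
    have hh : h ≫ j = g := Over.OverMorphism.ext (IsOpenImmersion.lift_fac O.ι g.left hgO)
    refine ⟨h, ?_, fun h' hh' => ?_⟩
    · show HilbD.pull (i ≫ f) h (restrOpen i f (HilbD.pull f j Z.1)) = W.1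
      rw [← restr_pull, pull_comp, hh, hg]
      exact restr_push i f W
    · have hWj : Within f (Set.range i) (HilbD.pull f (h' ≫ j) Z.1) :=
        (within_pull_iff f _ _).2 fun t => hr.le ⟨h'.left t, rfl⟩
      have e1 : HilbD.pull f (h' ≫ j) Z.1 = HilbD.pull f g Z.1 := by
        rw [← push_restr i f hWj, ← pull_comp, restr_pull, hg]
        exact congrArg (pushOpen i f) hh'
      have e2 : h' ≫ j = h ≫ j := ((hZ T (objPull (h' ≫ j) Z)).unique rfl e1.symm).trans hh.symm
      exact Over.OverMorphism.ext ((cancel_mono O.ι).1 (congrArg CommaMorphism.left e2))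
  · exact (inFibre_restr i f hW P t).trans (inFibre_pull f Z.1 j t)

end Groth.Agent.HilbCurve12
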