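import Groth.Agent.Var76.FibreBound

/-!
A finite family of morphisms that is bijective on field valued points computes the dimension of the target.
-/

set_option autoImplicit false
set_option linter.style.haveILetI false
set_option maxHeartbeats 1600000
set_option backward.isDefEq.respectTransparency false
set_option backward.isDefEq.respectTransparency.types false

universe u

open CategoryTheory CategoryTheory.Limits AlgebraicGeometry TopologicalSpace

namespace Groth.Agent.HilbCurve12

open Groth.Agent.WC97 (tdegN tdeg tdeg_eq_natCast kStr kStr_spec)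
open Groth.Agent.Var76

variable {k : Type u} [Field k]

theorem dim_eq_iSup_of_points {H : Scheme.{u}} (h : H ⟶ Spec (CommRingCat.of k)) [LocallyOfFiniteType h]
    {α : Type*} (W : α → Scheme.{u}) (g : ∀ a, W a ⟶ H) [∀ a, LocallyOfFiniteType (g a)]
    (hpts : ∀ (K : Type u) [Field K] (x : Spec (CommRingCat.of K) ⟶ H),
      ∃! q : Σ a, Spec (CommRingCat.of K) ⟶ W a, q.2 ≫ g q.1 = x) :
    topologicalKrullDim H = ⨆ a, topologicalKrullDim (W a) := by
  refine le_antisymm (FibreBound.dim_le_of_forall_univ h fun x => ?_) (iSup_le fun a => ?_)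
  · obtain ⟨⟨a, w⟩, hw, -⟩ := hpts (H.residueField x) (H.fromSpecResidueField x)
    refine le_iSup_of_le a (le_trans ?_
      (FibreBound.tdegN_le_dim (g a ≫ h) (w (IsLocalRing.closedPoint (H.residueField x)))))
    have he : g a (w (IsLocalRing.closedPoint (H.residueField x))) = x := by
      rw [← Scheme.Hom.comp_apply, hw]
      exact Scheme.fromSpecResidueField_apply _ _
    conv_lhs => rw [← he]
    refine Nat.cast_le.2 ?_
    rw [FibreBound.tdegN_eq_add (qY := h) (g a) rfl (w (IsLocalRing.closedPoint (H.residueField x)))]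
    exact Nat.le_add_right _ _
  · refine FibreBound.dim_le_of_forall_univ (g a ≫ h) fun y => le_trans ?_ (FibreBound.tdegN_le_dim h (g a y))
    refine Nat.cast_le.2 ?_
    obtain ⟨⟨a', w⟩, hw, -⟩ := hpts (H.residueField (g a y)) (H.fromSpecResidueField (g a y))
    obtain ⟨q, -, hu⟩ := hpts ((W a).residueField y) ((W a).fromSpecResidueField y ≫ g a)
    have h1 := hu ⟨a, (W a).fromSpecResidueField y⟩ rfl
    have h2 := hu ⟨a', Spec.map ((g a).residueFieldMap y) ≫ w⟩ (by
      show (Spec.map _ ≫ w) ≫ g a' = _
      rw [Category.assoc, hw]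
      exact Scheme.Hom.SpecMap_residueFieldMap_fromSpecResidueField _ _)
    obtain ⟨rfl, h4⟩ := Sigma.mk.inj_iff.1 (h1.trans h2.symm)
    have h3 : (W a).fromSpecResidueField y = Spec.map ((g a).residueFieldMap y) ≫ w := eq_of_heq h4
    obtain ⟨⟨z, φ⟩, hφ⟩ := (Scheme.SpecToEquivOfField (H.residueField (g a y)) (W a)).symm.surjective w
    have hzy : z = y := by
      have e1 := congr($h3 (IsLocalRing.closedPoint ((W a).residueField y)))
      rw [← hφ] at e1
      simp only [Scheme.SpecToEquivOfField, Equiv.coe_fn_symm_mk, Scheme.Hom.comp_apply] at e1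
      exact ((Scheme.fromSpecResidueField_apply _ _).symm.trans (e1.trans (Scheme.fromSpecResidueField_apply _ _))).symm
    subst hzy
    have hcomp : CommRingCat.ofHom (kStr (g a ≫ h) z) ≫ φ = CommRingCat.ofHom (kStr h (g a z)) := by
      apply Spec.map_injective
      rw [Spec.map_comp, kStr_spec, kStr_spec, ← hw, ← hφ]
      simp [Scheme.SpecToEquivOfField]
    have hle : tdeg (g a ≫ h) z ≤ tdeg h (g a z) := by
      letI : Algebra k ((W a).residueField z) := (kStr (g a ≫ h) z).toAlgebra
      letI : Algebra k (H.residueField (g a z)) := (kStr h (g a z)).toAlgebra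
      exact trdeg_le_of_injective ({ φ.hom with commutes' := fun c => congr($hcomp c) } :
        (W a).residueField z →ₐ[k] H.residueField (g a z)) φ.hom.injective
    rw [tdeg_eq_natCast, tdeg_eq_natCast] at hle
    exact_mod_cast hle

end Groth.Agent.HilbCurve12
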