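import Groth.Agent.HilbZeta12.Cells
import Mathlib.RingTheory.Flat.EquationalCriterion
import Mathlib.RingTheory.Finiteness.ModuleFinitePresentation
import Mathlib.RingTheory.Finiteness.Projective

/-!
Closed conditions on the field valued points of a family of finite subschemes of an affine scheme.
-/

set_option autoImplicit false
set_option linter.style.haveILetI false
set_option maxHeartbeats 1600000
set_option backward.isDefEq.respectTransparency false
set_option backward.isDefEq.respectTransparency.types false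

universe u

open CategoryTheory CategoryTheory.Limits AlgebraicGeometry
open scoped TensorProduct

noncomputable section

namespace Groth.Agent.HilbCurve12

open Groth.Agent.Grass5.Hilb Groth.Agent.Grass5.Punct

variable {k : Type u} [Field k] {R : Type u} [CommRing R] [Algebra k R]
  {T T' : Over (Spec (CommRingCat.of k))} {d d' : ℕ}

/-- the ideal of the member of a family at an affine point -/
def ptIdeal (Z : HilbD.Obj (str k R) d T) {B : Type u} [CommRing B] [Algebra k B] (g : TB k B ⟶ T) :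
    Ideal (B ⊗[k] R) :=
  (exists_sh (HilbD.pull (str k R) g Z.1)).choose

theorem sh_ptIdeal (Z : HilbD.Obj (str k R) d T) {B : Type u} [CommRing B] [Algebra k B] (g : TB k B ⟶ T) :
    sh (ptIdeal Z g) = HilbD.pull (str k R) g Z.1 :=
  (exists_sh (HilbD.pull (str k R) g Z.1)).choose_spec.symm

theorem ptIdeal_eq (Z : HilbD.Obj (str k R) d T) {B : Type u} [CommRing B] [Algebra k B] (g : TB k B ⟶ T)
    {J : Ideal (B ⊗[k] R)} (h : sh J = HilbD.pull (str k R) g Z.1) : ptIdeal Z g = J :=
  HilbZeta12.sh_injective ((sh_ptIdeal Z g).trans h.symm)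

theorem ptIdeal_comp (Z : HilbD.Obj (str k R) d T) {B B' : Type u} [CommRing B] [Algebra k B] [CommRing B']
    [Algebra k B'] (φ : B →ₐ[k] B') (g : TB k B ⟶ T) :
    ptIdeal Z (gT φ ≫ g) = (ptIdeal Z g).map (bcA R φ).toRingHom :=
  ptIdeal_eq Z _ (by rw [← pull_sh, sh_ptIdeal, pull_comp])

theorem ptIdeal_pull (Z : HilbD.Obj (str k R) d T) (q : T' ⟶ T) {B : Type u} [CommRing B] [Algebra k B]
    (g : TB k B ⟶ T') : ptIdeal (objPull q Z) g = ptIdeal Z (g ≫ q) :=
  ptIdeal_eq _ _ (by rw [sh_ptIdeal]; exact (pull_comp _ _ _ _).symm)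

theorem deg_ptIdeal (Z : HilbD.Obj (str k R) d T) {B : Type u} [CommRing B] [Algebra k B] (g : TB k B ⟶ T) :
    Mor2.IsFinLocFreeOfDeg d ((sh (ptIdeal Z g)).subschemeι ≫ PicF.XTproj (str k R) (TB k B)) := by
  rw [sh_ptIdeal]
  exact (objPull g Z).2

theorem projective_ptIdeal (Z : HilbD.Obj (str k R) d T) {B : Type u} [CommRing B] [Algebra k B]
    (g : TB k B ⟶ T) :
    Module.Finite B ((B ⊗[k] R) ⧸ ptIdeal Z g) ∧ Module.Projective B ((B ⊗[k] R) ⧸ ptIdeal Z g) := by
  obtain ⟨⟨h1, h2, h3⟩, -⟩ := (finLocFreeOfDeg_sh_iff d _).1 (deg_ptIdeal Z g)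
  haveI hf : Module.Finite B ((B ⊗[k] R) ⧸ ptIdeal Z g) :=
    RingHom.finite_algebraMap.1 ((IsFinite.SpecMap_iff _).1 h1)
  haveI : Module.Flat B ((B ⊗[k] R) ⧸ ptIdeal Z g) := RingHom.flat_algebraMap_iff.1 (Flat.SpecMap_iff.1 h2)
  haveI : Algebra.FinitePresentation B ((B ⊗[k] R) ⧸ ptIdeal Z g) :=
    RingHom.finitePresentation_algebraMap.1 ((HasRingHomProperty.Spec_iff (P := @LocallyOfFinitePresentation)).1 h3)
  haveI := Module.FinitePresentation.of_finite_of_finitePresentation B ((B ⊗[k] R) ⧸ ptIdeal Z g)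
  exact ⟨hf, Module.Flat.projective_of_finitePresentation⟩

theorem finrank_ptIdeal (Z : HilbD.Obj (str k R) d T) {K : Type u} [Field K] [Algebra k K] (g : TB k K ⟶ T) :
    Module.Finite K ((K ⊗[k] R) ⧸ ptIdeal Z g) ∧ Module.finrank K ((K ⊗[k] R) ⧸ ptIdeal Z g) = d := by
  haveI := (projective_ptIdeal Z g).1
  exact ⟨inferInstance, finrank_of_finLocFreeOfDeg_sh d _ (deg_ptIdeal Z g)⟩

/-- the image of the unique point -/
def pointOf {K : Type u} [Field K] [Algebra k K] (g : TB k K ⟶ T) : T.left :=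
  g.left (IsLocalRing.closedPoint K)

/-- the points all of whose field valued points satisfy a condition -/
def locus (P : ∀ (K : Type u) [Field K] [Algebra k K], (TB k K ⟶ T) → Prop) : Set T.left :=
  {t | ∀ (K : Type u) [Field K] [Algebra k K] (g : TB k K ⟶ T), pointOf g = t → P K g}

/-- **A condition defined by equations on every affine piece is closed.** -/
theorem isClosed_locus (P : ∀ (K : Type u) [Field K] [Algebra k K], (TB k K ⟶ T) → Prop)
    (h : ∀ (B : Type u) [CommRing B] [Algebra k B] (g : TB k B ⟶ T), ∃ I : Ideal B,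
      ∀ (K : Type u) [Field K] [Algebra k K] (φ : B →ₐ[k] K), P K (gT φ ≫ g) ↔ I ≤ RingHom.ker φ.toRingHom) :
    IsClosed (locus P) ∧ ∀ (K : Type u) [Field K] [Algebra k K] (g : TB k K ⟶ T), P K g ↔ pointOf g ∈ locus P := by
  have key : ∀ U : T.left.Opens, IsAffineOpen U → ∃ C : Set T.left, IsClosed C ∧
      ∀ (K : Type u) [Field K] [Algebra k K] (g : TB k K ⟶ T), pointOf g ∈ U → (P K g ↔ pointOf g ∈ C) := by
    intro U hU
    letI : Algebra k Γ(T.left, U) := (Spec.preimage (hU.fromSpec ≫ T.hom)).hom.toAlgebra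
    have hw : Spec.map (CommRingCat.ofHom (algebraMap k Γ(T.left, U))) = hU.fromSpec ≫ T.hom :=
      Spec.map_preimage _
    let gU : TB k Γ(T.left, U) ⟶ T := Over.homMk hU.fromSpec hw.symm
    obtain ⟨I, hI⟩ := h Γ(T.left, U) gU
    refine ⟨closure (hU.fromSpec '' PrimeSpectrum.zeroLocus (I : Set Γ(T.left, U))), isClosed_closure,
      fun K _ _ g hg => ?_⟩
    let l : Spec (CommRingCat.of K) ⟶ Spec Γ(T.left, U) := IsOpenImmersion.lift hU.fromSpec g.left (by
      rintro _ ⟨t, rfl⟩
      rw [hU.range_fromSpec, Subsingleton.elim (α := PrimeSpectrum K) t (IsLocalRing.closedPoint K)]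
      exact hg)
    have hl : l ≫ hU.fromSpec = g.left := IsOpenImmersion.lift_fac _ _ _
    let φ : Γ(T.left, U) →ₐ[k] K :=
      { (Spec.preimage l).hom with
        commutes' := fun c => by
          have : CommRingCat.ofHom (algebraMap k Γ(T.left, U)) ≫ Spec.preimage l =
              CommRingCat.ofHom (algebraMap k K) := by
            apply Spec.map_injective
            rw [Spec.map_comp, Spec.map_preimage, hw, reassoc_of% hl]
            exact Over.w g
          exact congr($this c) }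
    have hg' : gT φ ≫ gU = g := Over.OverMorphism.ext (by
      show Spec.map (Spec.preimage l) ≫ hU.fromSpec = g.left
      rw [Spec.map_preimage, hl])
    rw [← hg', hI K φ]
    let p : PrimeSpectrum Γ(T.left, U) := l (IsLocalRing.closedPoint K)
    have hp : p.asIdeal = RingHom.ker φ.toRingHom := by
      show (l (IsLocalRing.closedPoint K)).asIdeal = _
      conv_lhs => rw [← Spec.map_preimage l]
      ext x
      show (Spec.preimage l).hom x ∈ IsLocalRing.maximalIdeal K ↔ _
      rw [IsLocalRing.maximalIdeal_eq_bot, Ideal.mem_bot]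
      rfl
    have hpt : hU.fromSpec p = pointOf (gT φ ≫ gU) := by
      rw [hg']
      show hU.fromSpec (l _) = g.left _
      rw [← Scheme.Hom.comp_apply, hl]
      rfl
    rw [← hp, ← hpt]
    show I ≤ p.asIdeal ↔ _
    refine ⟨fun h => subset_closure ⟨p, (PrimeSpectrum.mem_zeroLocus _ _).2 h, rfl⟩, fun h => ?_⟩
    have h1 : p ∈ closure (PrimeSpectrum.zeroLocus (I : Set Γ(T.left, U))) := by
      rw [hU.fromSpec.isOpenEmbedding.isEmbedding.closure_eq_preimage_closure_image]
      exact h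
    rw [(PrimeSpectrum.isClosed_zeroLocus _).closure_eq] at h1
    exact h1
  have hpts : ∀ (K : Type u) [Field K] [Algebra k K] (g : TB k K ⟶ T),
      P K g ↔ pointOf g ∈ locus P := by
    intro K _ _ g
    refine ⟨fun hg L _ _ g' hg' => ?_, fun hg => hg K g rfl⟩
    obtain ⟨U, hU, hgU, -⟩ := exists_isAffineOpen_mem_and_subset
      (show pointOf g ∈ (⊤ : T.left.Opens) from trivial)
    obtain ⟨C, -, hC⟩ := key U hU
    rw [hC L g' (hg' ▸ hgU), hg']
    exact (hC K g hgU).1 hg
  refine ⟨?_, hpts⟩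
  rw [← isOpen_compl_iff, isOpen_iff_forall_mem_open]
  intro t ht
  obtain ⟨U, hU, htU, -⟩ := exists_isAffineOpen_mem_and_subset (show t ∈ (⊤ : T.left.Opens) from trivial)
  obtain ⟨C, hC, hCP⟩ := key U hU
  refine ⟨(U : Set T.left) ∩ Cᶜ, fun t' ⟨ht'U, ht'C⟩ ht'P => ?_, U.2.inter hC.isOpen_compl, htU, fun htC => ?_⟩
  · letI : Algebra k (T.left.residueField t') :=
      (Spec.preimage (T.left.fromSpecResidueField t' ≫ T.hom)).hom.toAlgebra
    let g : TB k (T.left.residueField t') ⟶ T :=
      Over.homMk (T.left.fromSpecResidueField t') (Spec.map_preimage _).symm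
    have hg : pointOf g = t' := Scheme.fromSpecResidueField_apply _ _
    exact ht'C (hg ▸ ((hCP _ g (hg.symm ▸ ht'U)).1 (ht'P _ g hg)))
  · refine ht fun K _ _ g hg => (hCP K g (hg.symm ▸ htU)).2 (hg.symm ▸ htC)

/-- extension of a functional to an extension of scalars -/
def func (ψ : R →ₗ[k] k) (B : Type u) [CommRing B] [Algebra k B] : B ⊗[k] R →ₗ[B] B :=
  LinearMap.liftBaseChange B ((Algebra.linearMap k B).comp ψ)

theorem mem_map_bcA {B K : Type u} [CommRing B] [Algebra k B] [CommRing K] [Algebra k K] (φ : B →ₐ[k] K)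
    (J : Ideal (B ⊗[k] R)) {z : K ⊗[k] R} (hz : z ∈ J.map (bcA R φ).toRingHom) :
    z ∈ Submodule.span K (bcA R φ '' J) := by
  refine Submodule.span_induction (fun w hw => Submodule.subset_span hw) (zero_mem _)
    (fun _ _ _ _ h h' => add_mem h h') (fun a w _ hw => ?_) (show z ∈ Submodule.span (K ⊗[k] R) (bcA R φ '' J) from hz)
  induction a with
  | zero => rw [zero_smul]; exact zero_mem _
  | add a b ha hb => rw [add_smul]; exact add_mem ha hb
  | tmul a r =>
    rw [smul_eq_mul]
    refine Submodule.span_induction (p := fun w _ => (a ⊗ₜ[k] r) * w ∈ Submodule.span K (bcA R φ '' J))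
      ?_ (by rw [mul_zero]; exact zero_mem _) (fun _ _ _ _ h h' => by rw [mul_add]; exact add_mem h h')
      (fun c w _ h => by rw [mul_smul_comm]; exact Submodule.smul_mem _ c h) hw
    rintro _ ⟨y, hy, rfl⟩
    have : (a ⊗ₜ[k] r) * bcA R φ y = a • bcA R φ (((1 : B) ⊗ₜ[k] r) * y) := by
      rw [map_mul, Algebra.TensorProduct.map_tmul, map_one, AlgHom.id_apply, ← smul_mul_assoc,
        TensorProduct.smul_tmul', smul_eq_mul, mul_one]
    rw [this]
    exact Submodule.smul_mem _ _ (Submodule.subset_span ⟨_, J.mul_mem_left _ hy, rfl⟩)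

theorem func_bcA (ψ : R →ₗ[k] k) {B K : Type u} [CommRing B] [Algebra k B] [CommRing K] [Algebra k K]
    (φ : B →ₐ[k] K) (z : B ⊗[k] R) : func ψ K (bcA R φ z) = φ (func ψ B z) := by
  induction z with
  | zero => simp
  | add a b ha hb => simp only [map_add, ha, hb]
  | tmul a r => simp [func, LinearMap.liftBaseChange_tmul]

/-- **Vanishing of a functional on the members of a family.** -/
theorem exists_func_eqn (Z : HilbD.Obj (str k R) d T) (ψ : R →ₗ[k] k) (B : Type u) [CommRing B] [Algebra k B]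
    (g : TB k B ⟶ T) : ∃ I : Ideal B, ∀ (K : Type u) [Field K] [Algebra k K] (φ : B →ₐ[k] K),
      (∀ x ∈ ptIdeal Z (gT φ ≫ g), func ψ K x = 0) ↔ I ≤ RingHom.ker φ.toRingHom := by
  refine ⟨Ideal.span (func ψ B '' (ptIdeal Z g : Set _)), fun K _ _ φ => ?_⟩
  rw [ptIdeal_comp, Ideal.span_le]
  constructor
  · rintro h _ ⟨x, hx, rfl⟩
    show φ (func ψ B x) = 0
    rw [← func_bcA]
    exact h _ (Ideal.mem_map_of_mem _ hx)
  · intro h x hx
    refine Submodule.span_induction ?_ (map_zero _) (fun _ _ _ _ h h' => by rw [map_add, h, h', add_zero])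
      (fun c w _ h => by rw [map_smul, h, smul_zero]) (mem_map_bcA φ _ hx)
    rintro _ ⟨y, hy, rfl⟩
    rw [func_bcA]
    exact h ⟨y, hy, rfl⟩

theorem baseChange_bcA (σ : R →ₗ[k] R) {B K : Type u} [CommRing B] [Algebra k B] [CommRing K] [Algebra k K]
    (φ : B →ₐ[k] K) (z : B ⊗[k] R) : σ.baseChange K (bcA R φ z) = bcA R φ (σ.baseChange B z) := by
  induction z with
  | zero => simp
  | add a b ha hb => simp only [map_add, ha, hb]
  | tmul a r => simp

/-- **A linear map carrying the members of one family into those of another.** -/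
theorem exists_map_eqn (Z : HilbD.Obj (str k R) d T) (Z' : HilbD.Obj (str k R) d' T) (σ : R →ₗ[k] R)
    (B : Type u) [CommRing B] [Algebra k B]
    (g : TB k B ⟶ T) : ∃ I : Ideal B, ∀ (K : Type u) [Field K] [Algebra k K] (φ : B →ₐ[k] K),
      (∀ x ∈ ptIdeal Z (gT φ ≫ g), σ.baseChange K x ∈ ptIdeal Z' (gT φ ≫ g)) ↔ I ≤ RingHom.ker φ.toRingHom := by
  let J' := ptIdeal Z' g
  haveI := (projective_ptIdeal Z' g).1
  haveI := (projective_ptIdeal Z' g).2
  obtain ⟨n, f, s, -, -, hfs⟩ := Module.Finite.exists_comp_eq_id_of_projective B ((B ⊗[k] R) ⧸ J')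
  refine ⟨Ideal.span {b | ∃ (ψ : ((B ⊗[k] R) ⧸ J') →ₗ[B] B), ∃ x ∈ ptIdeal Z g,
    ψ (Ideal.Quotient.mk J' (σ.baseChange B x)) = b}, fun K _ _ φ => ?_⟩
  rw [ptIdeal_comp, ptIdeal_comp, Ideal.span_le]
  show (∀ x ∈ _, σ.baseChange K x ∈ J'.map _) ↔ _
  letI : Algebra B K := φ.toRingHom.toAlgebra
  constructor
  · rintro h _ ⟨ψ, x, hx, rfl⟩
    show φ (ψ (Ideal.Quotient.mk J' (σ.baseChange B x))) = 0
    let ψ₀ : B ⊗[k] R →ₗ[B] B := ψ.comp (Ideal.Quotient.mkₐ B J').toLinearMap
    let ψK : K ⊗[k] R →ₗ[K] K := LinearMap.liftBaseChange K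
      ((φ.toLinearMap.comp ((ψ₀.restrictScalars k).comp
        ((TensorProduct.mk k B R) 1))))
    have hψK : ∀ y, ψK (bcA R φ y) = φ (ψ₀ y) := by
      intro y
      induction y with
      | zero => simp
      | add a b ha hb => simp only [map_add, ha, hb]
      | tmul a r =>
        have hr : (a ⊗ₜ[k] r : B ⊗[k] R) = a • ((1 : B) ⊗ₜ[k] r) := by
          rw [TensorProduct.smul_tmul', smul_eq_mul, mul_one]
        conv_rhs => rw [hr, map_smul, smul_eq_mul, map_mul]
        simp [ψK, LinearMap.liftBaseChange_tmul]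
    have h1 := h _ (Ideal.mem_map_of_mem (bcA R φ).toRingHom hx)
    rw [show σ.baseChange K ((bcA R φ).toRingHom x) = bcA R φ (σ.baseChange B x) from baseChange_bcA σ φ x] at h1
    have h2 : ψK (bcA R φ (σ.baseChange B x)) = 0 := by
      refine Submodule.span_induction ?_ (map_zero _) (fun _ _ _ _ h h' => by rw [map_add, h, h', add_zero])
        (fun c w _ h => by rw [map_smul, h, smul_zero]) (mem_map_bcA φ _ h1)
      rintro _ ⟨y, hy, rfl⟩
      rw [hψK]
      show φ (ψ (Ideal.Quotient.mk J' y)) = 0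
      rw [Ideal.Quotient.eq_zero_iff_mem.2 hy, map_zero, map_zero]
    rw [hψK] at h2
    exact h2
  · intro h x hx
    refine Submodule.span_induction ?_ (by rw [map_zero]; exact zero_mem _)
      (fun _ _ _ _ h h' => by rw [map_add]; exact add_mem h h')
      (fun c w _ h => by rw [map_smul, Algebra.smul_def]; exact Ideal.mul_mem_left _ _ h) (mem_map_bcA φ _ hx)
    rintro _ ⟨y, hy, rfl⟩
    rw [baseChange_bcA]
    set z := σ.baseChange B y
    choose e he using fun i => Ideal.Quotient.mk_surjective (I := J') (f (Pi.single i 1))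
    have hz : z - ∑ i, (s (Ideal.Quotient.mk J' z) i) • e i ∈ J' := by
      have h1 := LinearMap.congr_fun hfs (Ideal.Quotient.mk J' z)
      simp only [LinearMap.comp_apply, LinearMap.id_apply] at h1
      rw [← Ideal.Quotient.eq_zero_iff_mem, map_sub, map_sum, sub_eq_zero]
      conv_lhs => rw [← h1, pi_eq_sum_univ' (s (Ideal.Quotient.mk J' z)), map_sum]
      refine Finset.sum_congr rfl fun i _ => ?_
      rw [map_smul, ← he, ← Ideal.Quotient.mkₐ_eq_mk B, map_smul]
    have h2 : ∀ i, bcA R φ ((s (Ideal.Quotient.mk J' z) i) • e i) = 0 := fun i => by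
      have h3 : φ (s (Ideal.Quotient.mk J' z) i) = 0 := h ⟨(LinearMap.proj i).comp s, y, hy, rfl⟩
      rw [Algebra.smul_def, map_mul, Algebra.TensorProduct.algebraMap_apply, Algebra.TensorProduct.map_tmul,
        Algebra.algebraMap_self_apply, h3, TensorProduct.zero_tmul, zero_mul]
    have h4 := Ideal.mem_map_of_mem (bcA R φ).toRingHom hz
    change bcA R φ (z - _) ∈ _ at h4
    rw [map_sub, map_sum, Finset.sum_eq_zero (fun i _ => h2 i), sub_zero] at h4
    exact h4

end Groth.Agent.HilbCurve12
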