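import Groth.Agent.HilbCurve12.Model
import Mathlib.LinearAlgebra.Dimension.Finrank
import Mathlib.LinearAlgebra.FiniteDimensional.Basic
import Mathlib.RingTheory.Flat.Basic
import Mathlib.RingTheory.TensorProduct.Basic

/-!
Ideals of finite colength at a point of a curve, read through their orders along the branches, and the
translation along the branches.
-/

set_option autoImplicit false
set_option linter.style.haveILetI false
set_option maxHeartbeats 1600000
set_option backward.isDefEq.respectTransparency false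
set_option backward.isDefEq.respectTransparency.types false

universe u

open scoped TensorProduct

noncomputable section

namespace Groth.Agent.HilbCurve12

variable {k : Type u} [Field k] {R : Type u} [CommRing R] [Algebra k R] {m : Ideal R} {s : ℕ}
  (M : CurveModel k R m s) (K : Type u) [Field K] [Algebra k K]

/-- expansion along the branches over an extension field -/
def expand : K ⊗[k] R →ₐ[K] (Fin s → PowerSeries K) :=
  Algebra.TensorProduct.lift (Algebra.ofId K _)
    { toRingHom := (RingHom.pi fun i => (PowerSeries.map (algebraMap k K)).comp (Pi.evalRingHom _ i)).comp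
        M.φ.toRingHom
      commutes' := fun c => funext fun i => by
        show PowerSeries.map (algebraMap k K) (M.φ (algebraMap k R c) i) = _
        rw [M.φ.commutes, Pi.algebraMap_apply, Pi.algebraMap_apply, PowerSeries.algebraMap_apply,
          PowerSeries.algebraMap_apply, PowerSeries.map_C]
        rfl }
    fun _ _ => Commute.all _ _

theorem coeff_expand_tmul (a : K) (r : R) (i : Fin s) (j : ℕ) :
    PowerSeries.coeff j (expand M K (a ⊗ₜ r) i) = a * algebraMap k K (PowerSeries.coeff j (M.φ r i)) := by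
  simp [expand, Pi.algebraMap_apply, PowerSeries.algebraMap_apply]

/-- truncated coefficients -/
abbrev Trunc (K : Type u) (s N : ℕ) : Type u := Fin s → Fin N → K

/-- truncation of families of series -/
def trunc (N : ℕ) : (Fin s → PowerSeries K) →ₗ[K] Trunc K s N :=
  LinearMap.pi fun i => LinearMap.pi fun j => (PowerSeries.coeff (j : ℕ)).comp (LinearMap.proj i)

theorem trunc_apply (N : ℕ) (f : Fin s → PowerSeries K) (i : Fin s) (j : Fin N) :
    trunc K N f i j = PowerSeries.coeff (j : ℕ) (f i) := rfl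

/-- congruence up to order `N` -/
def Cg (N : ℕ) (f g : Fin s → PowerSeries K) : Prop :=
  ∀ i, (PowerSeries.X : PowerSeries K) ^ N ∣ f i - g i

theorem cg_iff_trunc {N : ℕ} {f g : Fin s → PowerSeries K} : Cg K N f g ↔ trunc K N f = trunc K N g := by
  simp only [Cg, PowerSeries.X_pow_dvd_iff, map_sub, sub_eq_zero]
  exact ⟨fun h => funext fun i => funext fun j => h i j j.2,
    fun h i j hj => congrFun (congrFun h i) ⟨j, hj⟩⟩

/-- the truncated expansion -/
def truncExpand (N : ℕ) : K ⊗[k] R →ₗ[K] Trunc K s N :=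
  (trunc K N).comp (expand M K).toLinearMap

theorem truncExpand_tmul (N : ℕ) (a : K) (r : R) (i : Fin s) (j : Fin N) :
    truncExpand M K N (a ⊗ₜ r) i j = a * algebraMap k K (trunc k N (M.φ r) i j) :=
  coeff_expand_tmul M K a r i j

theorem exists_approx (f : Fin s → PowerSeries K) (hf : ∀ i, (PowerSeries.X : PowerSeries K) ^ M.c ∣ f i)
    (N : ℕ) : ∃ x : K ⊗[k] R, Cg K N (expand M K x) f := by
  classical
  have h : ∀ (i : Fin s) (j : ℕ), ∃ r : R, M.c ≤ j → ∀ l, (PowerSeries.X : PowerSeries k) ^ N ∣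
      M.φ r l - (Pi.single i ((PowerSeries.X : PowerSeries k) ^ j) : Fin s → PowerSeries k) l := by
    intro i j
    by_cases hj : M.c ≤ j
    · obtain ⟨r, hr⟩ := M.approx (Pi.single i ((PowerSeries.X : PowerSeries k) ^ j)) (fun l => by
        rcases eq_or_ne l i with rfl | hne
        · simpa using pow_dvd_pow _ hj
        · simp [hne]) N
      exact ⟨r, fun _ => hr⟩
    · exact ⟨0, fun h => absurd h hj⟩
  choose r hr using h
  refine ⟨∑ i : Fin s, ∑ j : Fin N, PowerSeries.coeff (j : ℕ) (f i) ⊗ₜ r i j, ?_⟩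
  rw [cg_iff_trunc]
  funext l n
  simp only [map_sum, Finset.sum_apply, trunc_apply, coeff_expand_tmul]
  rw [Finset.sum_eq_single l, Finset.sum_eq_single n]
  · by_cases hn : M.c ≤ (n : ℕ)
    · have := PowerSeries.X_pow_dvd_iff.1 (hr l n hn l) n n.2
      simp only [Pi.single_eq_same, map_sub, PowerSeries.coeff_X_pow, if_true, sub_eq_zero] at this
      rw [this, map_one, mul_one]
    · rw [PowerSeries.X_pow_dvd_iff.1 (hf l) n (not_le.1 hn), zero_mul]
  · intro j _ hj
    by_cases hjc : M.c ≤ (j : ℕ)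
    · have := PowerSeries.X_pow_dvd_iff.1 (hr l j hjc l) n n.2
      simp only [Pi.single_eq_same, map_sub, PowerSeries.coeff_X_pow, sub_eq_zero] at this
      rw [this, if_neg (fun h => hj (Fin.ext h).symm), map_zero, mul_zero]
    · rw [PowerSeries.X_pow_dvd_iff.1 (hf l) j (not_le.1 hjc), zero_mul]
  · simp
  · intro i _ hi
    refine Finset.sum_eq_zero fun j _ => ?_
    by_cases hjc : M.c ≤ (j : ℕ)
    · have := PowerSeries.X_pow_dvd_iff.1 (hr i j hjc l) n n.2
      simp only [Pi.single_eq_of_ne (Ne.symm hi), sub_zero] at this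
      rw [this, map_zero, mul_zero]
    · rw [PowerSeries.X_pow_dvd_iff.1 (hf i) j (not_le.1 hjc), zero_mul]
  · simp

theorem exists_small (d : ℕ) : ∃ N : ℕ, ∀ (K : Type u) [Field K] [Algebra k K] (x : K ⊗[k] R),
    Cg K N (expand M K x) 0 →
      x ∈ (m ^ d).map (Algebra.TensorProduct.includeRight : R →ₐ[k] K ⊗[k] R).toRingHom := by
  obtain ⟨N, hN⟩ := M.small d
  refine ⟨N, fun K _ _ x hx => ?_⟩
  let T : R →ₗ[k] Trunc k s N := (trunc k N).comp M.φ.toLinearMap
  let e : K ⊗[k] Trunc k s N →ₗ[k] Trunc K s N :=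
    ((TensorProduct.piRight k K K (fun _ : Fin s => Fin N → k)).trans
      (LinearEquiv.piCongrRight fun _ => TensorProduct.piScalarRight k K K (Fin N))).toLinearMap.restrictScalars k
  have he : ∀ z : K ⊗[k] R, truncExpand M K N z = e (T.lTensor K z) := by
    intro z
    induction z with
    | zero => simp
    | add a b ha hb => rw [map_add, map_add, map_add, ha, hb]
    | tmul a r =>
      funext i j
      rw [truncExpand_tmul]
      simp [e, T, TensorProduct.piScalarRight_apply, Algebra.smul_def, mul_comm]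
  have hinj : Function.Injective e := by
    simp only [e, LinearMap.coe_restrictScalars, LinearEquiv.coe_coe]
    exact LinearEquiv.injective _
  have hx0 : T.lTensor K x = 0 := hinj (by
    rw [map_zero, ← he]
    have := (cg_iff_trunc K).1 hx
    rw [map_zero] at this
    exact this)
  obtain ⟨y, rfl⟩ := (Module.Flat.lTensor_exact K (LinearMap.exact_subtype_ker_map T) x).1 hx0
  induction y with
  | zero => simp
  | add a b ha hb =>
    rw [map_add]
    refine add_mem (ha ?_ ?_) (hb ?_ ?_)
    all_goals first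
      | (rw [cg_iff_trunc, map_zero]
         show truncExpand M K N _ = 0
         rw [he, ← LinearMap.comp_apply (T.lTensor K), ← LinearMap.lTensor_comp, LinearMap.comp_ker_subtype,
           LinearMap.lTensor_zero, LinearMap.zero_apply, map_zero])
      | (rw [← LinearMap.comp_apply (T.lTensor K), ← LinearMap.lTensor_comp, LinearMap.comp_ker_subtype,
           LinearMap.lTensor_zero, LinearMap.zero_apply])
  | tmul a r =>
    have hr : (r : R) ∈ m ^ d := hN r fun i => by
      rw [PowerSeries.X_pow_dvd_iff]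
      intro j hj
      exact congrFun (congrFun (LinearMap.mem_ker.1 r.2) i) ⟨j, hj⟩
    have : (a ⊗ₜ[k] (r : R)) = (a ⊗ₜ[k] (1 : R)) * ((1 : K) ⊗ₜ[k] (r : R)) := by
      rw [Algebra.TensorProduct.tmul_mul_tmul, mul_one, one_mul]
    rw [LinearMap.lTensor_tmul, Submodule.coe_subtype, this]
    exact Ideal.mul_mem_left _ _ (Ideal.mem_map_of_mem
      (Algebra.TensorProduct.includeRight : R →ₐ[k] K ⊗[k] R).toRingHom hr)

theorem map_le_of_nilpotent {A : Type u} [CommRing A] [Algebra K A] (J P : Ideal A) (hP : P.FG)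
    (hrad : P ≤ J.radical) (hfin : Module.Finite K (A ⧸ J)) {d : ℕ} (hd : Module.finrank K (A ⧸ J) ≤ d) :
    P ^ d ≤ J := by
  obtain ⟨e, he⟩ := Ideal.exists_pow_le_of_le_radical_of_fg hrad hP
  let Q := P.map (Ideal.Quotient.mk J)
  have hQ : ∀ j, Q ^ j = ⊥ → P ^ j ≤ J := fun j h => by
    rw [← Ideal.mk_ker (I := J), ← Ideal.map_eq_bot_iff_le_ker, Ideal.map_pow]
    exact h
  refine hQ d ?_
  have he' : Q ^ e = ⊥ := by
    rw [← Ideal.map_pow, Ideal.map_eq_bot_iff_le_ker, Ideal.mk_ker]
    exact he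
  by_contra hne
  have hstrict : ∀ j ≤ d, Q ^ j ≠ ⊥ := fun j hj h => hne (le_bot_iff.1 (h ▸ Ideal.pow_le_pow_right hj))
  have hdec : ∀ j ≤ d, Module.finrank K ((Q ^ (j + 1)).restrictScalars K) <
      Module.finrank K ((Q ^ j).restrictScalars K) := by
    intro j hj
    refine Submodule.finrank_lt_finrank_of_lt (lt_of_le_of_ne (Ideal.pow_le_pow_right j.le_succ) fun h => ?_)
    have h' : Q ^ (j + 1) = Q ^ j := Submodule.restrictScalars_injective K _ _ h
    have hall : ∀ t, Q ^ (j + t) = Q ^ j := by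
      intro t
      induction t with
      | zero => rfl
      | succ t ih => rw [← add_assoc, pow_succ, ih, ← pow_succ, h']
    refine hstrict j hj (le_bot_iff.1 ?_)
    rw [← hall e, pow_add, he', Ideal.mul_bot]
  have hbound : ∀ j ≤ d, Module.finrank K ((Q ^ (j + 1)).restrictScalars K) + (j + 1) ≤
      Module.finrank K (A ⧸ J) := by
    intro j hj
    induction j with
    | zero =>
      have := (hdec 0 hj).trans_le (Submodule.finrank_le _)
      omega
    | succ j ih =>
      have := ih (Nat.le_of_succ_le hj)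
      have := hdec (j + 1) hj
      omega
  have := hbound d le_rfl
  omega

variable {K}

/-- a punctual ideal of colength `d` -/
structure Good (d : ℕ) (J : Ideal (K ⊗[k] R)) : Prop where
  finite : Module.Finite K ((K ⊗[k] R) ⧸ J)
  finrank : Module.finrank K ((K ⊗[k] R) ⧸ J) = d
  supp : ∀ g ∈ m, ((1 : K) ⊗ₜ[k] g) ∈ J.radical

variable (K)

theorem exists_bound [IsNoetherianRing R] (d : ℕ) : ∃ N : ℕ, ∀ (K : Type u) [Field K] [Algebra k K],
    ∀ d' ≤ d, ∀ J : Ideal (K ⊗[k] R),
      Good (m := m) d' J → ∀ x : K ⊗[k] R, Cg K N (expand M K x) 0 → x ∈ J := by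
  obtain ⟨N, hN⟩ := exists_small M d
  refine ⟨N, fun K _ _ d' hd' J hJ x hx => ?_⟩
  let i := (Algebra.TensorProduct.includeRight : R →ₐ[k] K ⊗[k] R).toRingHom
  have h1 : m.map i ≤ J.radical := Ideal.map_le_iff_le_comap.2 fun g hg => hJ.supp g hg
  have h2 := map_le_of_nilpotent K J (m.map i) (Ideal.FG.map (IsNoetherian.noetherian m) i) h1 hJ.finite
    (hJ.finrank.le.trans hd')
  rw [← Ideal.map_pow] at h2
  exact h2 (hN K x hx)

variable {K}

/-- all the orders on the branch `i` are at least `n` -/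
def OrdGe (J : Ideal (K ⊗[k] R)) (i : Fin s) (n : ℕ) : Prop :=
  ∀ x ∈ J, (PowerSeries.X : PowerSeries K) ^ n ∣ expand M K x i

/-- the orders of an ideal along the branches -/
def HasType (J : Ideal (K ⊗[k] R)) (b : Fin s → ℕ) : Prop :=
  ∀ i, OrdGe M J i (b i) ∧ ¬ OrdGe M J i (b i + 1)

theorem OrdGe.mono {J : Ideal (K ⊗[k] R)} {i : Fin s} {n n' : ℕ} (h : OrdGe M J i n) (hle : n' ≤ n) :
    OrdGe M J i n' := fun x hx => (pow_dvd_pow _ hle).trans (h x hx)

theorem HasType.eq {J : Ideal (K ⊗[k] R)} {b b' : Fin s → ℕ} (h : HasType M J b) (h' : HasType M J b') :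
    b = b' := by
  funext i
  rcases lt_trichotomy (b i) (b' i) with hlt | heq | hgt
  · exact absurd ((h' i).1.mono M hlt) (h i).2
  · exact heq
  · exact absurd ((h i).1.mono M hgt) (h' i).2

theorem exists_hasType {d N : ℕ} (hN : ∀ J : Ideal (K ⊗[k] R), Good (m := m) d J →
      ∀ x : K ⊗[k] R, Cg K N (expand M K x) 0 → x ∈ J)
    {J : Ideal (K ⊗[k] R)} (hJ : Good (m := m) d J) :
    ∃ b, HasType M J b ∧ ∀ i, b i ≤ max N M.c := by
  classical
  have h : ∀ i, ¬ OrdGe M J i (max N M.c + 1) := by
    intro i hi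
    obtain ⟨x, hx⟩ := exists_approx M K (fun _ => (PowerSeries.X : PowerSeries K) ^ max N M.c)
      (fun _ => pow_dvd_pow _ (le_max_right _ _)) (max N M.c + 1)
    have hxJ : x ∈ J := hN J hJ x fun l => by
      rw [Pi.zero_apply, sub_zero]
      have h1 := ((pow_dvd_pow _ (by omega : N ≤ max N M.c + 1)).trans (hx l))
      exact (dvd_sub_left (pow_dvd_pow (PowerSeries.X : PowerSeries K) (le_max_left N M.c))).1 h1
    have := (dvd_sub_right (hi x hxJ)).1 (hx i)
    have := PowerSeries.X_pow_dvd_iff.1 this (max N M.c) (Nat.lt_succ_self _)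
    simp at this
  let b : Fin s → ℕ := fun i => Nat.findGreatest (fun n => OrdGe M J i n) (max N M.c)
  refine ⟨b, fun i => ⟨?_, fun hcon => ?_⟩, fun i => Nat.findGreatest_le _⟩
  · exact Nat.findGreatest_spec (P := fun n => OrdGe M J i n) (Nat.zero_le _) fun x _ => by simp
  · rcases Nat.lt_or_ge (b i) (max N M.c) with hlt | hge
    · exact Nat.findGreatest_is_greatest (P := fun n => OrdGe M J i n) (Nat.lt_succ_self _) hlt hcon
    · exact h i (hcon.mono M (by omega))

/-- an ideal with orders `b` contains everything of order at least `b + c` -/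
theorem mem_of_hasType {N : ℕ} {J : Ideal (K ⊗[k] R)} (hN : ∀ x : K ⊗[k] R, Cg K N (expand M K x) 0 → x ∈ J)
    {b : Fin s → ℕ} (hb : HasType M J b) {x : K ⊗[k] R}
    (hx : ∀ i, (PowerSeries.X : PowerSeries K) ^ (b i + M.c) ∣ expand M K x i) : x ∈ J := by
  classical
  have h : ∀ i, ∃ f ∈ J, ∃ u : (PowerSeries K)ˣ, expand M K f i = (PowerSeries.X : PowerSeries K) ^ b i * (u : PowerSeries K) := by
    intro i
    obtain ⟨h1, h2⟩ := hb i
    simp only [OrdGe, not_forall] at h2
    obtain ⟨f, hf, hf'⟩ := h2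
    obtain ⟨w, hw⟩ := h1 f hf
    have hu : IsUnit w := by
      rw [PowerSeries.isUnit_iff_constantCoeff, isUnit_iff_ne_zero]
      intro h0
      refine hf' ?_
      obtain ⟨v, rfl⟩ := PowerSeries.X_dvd_iff.2 h0
      exact ⟨v, by rw [hw, pow_succ]; ring⟩
    exact ⟨f, hf, hu.unit, hw⟩
  choose f hfJ u hu using h
  choose w hw using hx
  have hr : ∀ i, ∃ r : K ⊗[k] R, Cg K N (expand M K r)
      (Pi.single i ((PowerSeries.X : PowerSeries K) ^ M.c * w i *
        (((u i)⁻¹ : (PowerSeries K)ˣ) : PowerSeries K))) := fun i =>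
    exists_approx M K _ (fun l => by
      rcases eq_or_ne l i with rfl | hne
      · rw [Pi.single_eq_same, mul_assoc]; exact dvd_mul_right _ _
      · simp [hne]) N
  choose r hr using hr
  have hsum : x - ∑ i, r i * f i ∈ J := hN _ fun l => by
    rw [map_sub, map_sum, Pi.sub_apply, Finset.sum_apply, Pi.zero_apply, sub_zero]
    have h1 : expand M K x l = ∑ i, (Pi.single i ((PowerSeries.X : PowerSeries K) ^ M.c * w i *
          (((u i)⁻¹ : (PowerSeries K)ˣ) : PowerSeries K)) : Fin s → PowerSeries K) l * expand M K (f i) l := by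
      rw [Finset.sum_eq_single l (fun i _ hi => by rw [Pi.single_eq_of_ne (Ne.symm hi), zero_mul])
        (fun h => absurd (Finset.mem_univ l) h), Pi.single_eq_same, hu, hw, pow_add]
      calc PowerSeries.X ^ b l * PowerSeries.X ^ M.c * w l
          = PowerSeries.X ^ M.c * w l * (PowerSeries.X ^ b l) *
              ((((u l)⁻¹ : (PowerSeries K)ˣ) : PowerSeries K) * (u l : PowerSeries K)) := by rw [Units.inv_mul]; ring
        _ = _ := by ring
    rw [h1, ← Finset.sum_sub_distrib]
    refine Finset.dvd_sum fun i _ => ?_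
    rw [map_mul, Pi.mul_apply, ← sub_mul]
    exact dvd_mul_of_dvd_left ((dvd_neg (b := _)).2 (hr i l) |>.trans (dvd_of_eq (neg_sub _ _))) _
  have := add_mem hsum (sum_mem fun i (_ : i ∈ Finset.univ) => Ideal.mul_mem_left J (r i) (hfJ i))
  simpa using this

/-- colength through truncations -/
theorem finrank_quotient_eq (N : ℕ) {J : Ideal (K ⊗[k] R)}
    (hN : ∀ x : K ⊗[k] R, Cg K N (expand M K x) 0 → x ∈ J) :
    Module.Finite K ((K ⊗[k] R) ⧸ J) ∧
      Module.finrank K ((K ⊗[k] R) ⧸ J) + Module.finrank K ((J.restrictScalars K).map (truncExpand M K N)) =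
        Module.finrank K (LinearMap.range (truncExpand M K N)) := by
  let T := truncExpand M K N
  let U := (J.restrictScalars K).map T
  let q : K ⊗[k] R →ₗ[K] LinearMap.range T ⧸ U.comap (LinearMap.range T).subtype :=
    (Submodule.mkQ _).comp T.rangeRestrict
  have hker : LinearMap.ker q = J.restrictScalars K := by
    ext x
    simp only [q, LinearMap.mem_ker, LinearMap.comp_apply, Submodule.mkQ_apply, Submodule.Quotient.mk_eq_zero,
      Submodule.mem_comap, Submodule.coe_subtype, U]
    refine ⟨fun ⟨y, hy, hyx⟩ => ?_, fun hx => ⟨x, hx, rfl⟩⟩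
    have h0 : x - y ∈ J := hN _ (by
      rw [cg_iff_trunc, map_zero]
      show T (x - y) = 0
      rw [map_sub, sub_eq_zero]
      exact hyx.symm)
    have := J.add_mem h0 hy
    simpa using this
  have hsurj : Function.Surjective q :=
    (Submodule.mkQ_surjective _).comp T.surjective_rangeRestrict
  let e : ((K ⊗[k] R) ⧸ J) ≃ₗ[K] LinearMap.range T ⧸ U.comap (LinearMap.range T).subtype :=
    (Submodule.Quotient.restrictScalarsEquiv K J).symm ≪≫ₗ Submodule.quotEquivOfEq _ _ hker.symm ≪≫ₗ
      q.quotKerEquivOfSurjective hsurj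
  refine ⟨Module.Finite.equiv e.symm, ?_⟩
  rw [e.finrank_eq, ← LinearEquiv.finrank_eq (Submodule.comapSubtypeEquivOfLe
    (show U ≤ LinearMap.range T from LinearMap.map_le_range))]
  exact Submodule.finrank_quotient_add_finrank _

theorem supp_of_small (N : ℕ) {J : Ideal (K ⊗[k] R)}
    (hN : ∀ x : K ⊗[k] R, Cg K N (expand M K x) 0 → x ∈ J) (g : R) (hg : g ∈ m) :
    ((1 : K) ⊗ₜ[k] g) ∈ J.radical := by
  refine ⟨N, hN _ fun i => ?_⟩
  rw [Pi.zero_apply, sub_zero, map_pow, Pi.pow_apply]
  refine pow_dvd_pow_of_dvd ?_ N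
  rw [PowerSeries.X_dvd_iff, ← PowerSeries.coeff_zero_eq_constantCoeff_apply, coeff_expand_tmul,
    PowerSeries.coeff_zero_eq_constantCoeff_apply, PowerSeries.X_dvd_iff.1 ((M.mem_iff g).1 hg i), map_zero,
    mul_zero]

end Groth.Agent.HilbCurve12
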