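import Groth.Agent.HilbCurve12.Reduce
import Mathlib.RingTheory.PowerSeries.WellKnown
import Mathlib.RingTheory.PowerSeries.Trunc

/-!
The generating series of the strata and the stabilisation of their dimensions.
-/

set_option autoImplicit false
set_option linter.style.haveILetI false
set_option maxHeartbeats 1600000

universe u

open Finset

namespace Groth.Agent.HilbCurve12

theorem exists_poly_mul {K : Type u} [CommRing K] {s c D : ℕ} (w : ℕ → (Fin s → Fin (c + 1)) → K)
    (hw : ∀ e b, D < e → w e b = 0) :
    ∃ P : Polynomial K,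
      PowerSeries.mk (fun d => ∑ a : Idx s c d, w (d - a.len) a.1.1) * (1 - PowerSeries.X) ^ s =
        (P : PowerSeries K) := by
  classical
  let S : (Fin s → Fin (c + 1)) → Finset (Fin s) := fun b => univ.filter fun i => (b i : ℕ) = c
  let F : (Fin s → Fin (c + 1)) → Polynomial K := fun b =>
    PowerSeries.trunc (D + 1) (PowerSeries.mk fun e => w e b)
  have hF : ∀ b, ((F b : Polynomial K) : PowerSeries K) = PowerSeries.mk fun e => w e b := by
    intro b
    ext e
    rw [Polynomial.coeff_coe, PowerSeries.coeff_trunc, PowerSeries.coeff_mk]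
    split_ifs with h
    · rfl
    · exact (hw e b (by omega)).symm
  refine ⟨∑ b, F b * (1 - Polynomial.X) ^ (s - (S b).card), ?_⟩
  have key : PowerSeries.mk (fun d => ∑ a : Idx s c d, w (d - a.len) a.1.1) =
      ∑ b, PowerSeries.mk 1 ^ (S b).card * PowerSeries.mk (fun e => w e b) := by
    ext d
    rw [PowerSeries.coeff_mk, map_sum]
    have hexp : ∀ b, PowerSeries.coeff d (PowerSeries.mk 1 ^ (S b).card * PowerSeries.mk fun e => w e b) =
        ∑ p ∈ (HasAntidiagonal.antidiagonal d).sigma (fun p => finsuppAntidiag (S b) p.1), w p.1.2 b := by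
      intro b
      rw [PowerSeries.coeff_mul, sum_sigma]
      refine sum_congr rfl fun p _ => ?_
      rw [← prod_const, PowerSeries.coeff_prod, PowerSeries.coeff_mk, sum_mul]
      refine sum_congr rfl fun l _ => ?_
      simp
    rw [Finset.sum_congr rfl fun b _ => hexp b]
    refine Eq.trans ?_ (Finset.sum_sigma univ
      (fun b => (HasAntidiagonal.antidiagonal d).sigma fun p => finsuppAntidiag (S b) p.1)
      (fun q => w q.2.1.2 q.1))
    refine sum_bij'
      (fun (a : Idx s c d) _ => ⟨a.1.1, ⟨(a.len, d - a.len), Finsupp.equivFunOnFinite.symm fun i => (a.1.2 i : ℕ)⟩⟩)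
      (fun q hq => ⟨(q.1, fun i => ⟨q.2.2 i, ?_⟩), ?_, ?_⟩) ?_ ?_ ?_ ?_ ?_
    · simp only [Finset.mem_sigma, mem_univ, true_and, HasAntidiagonal.mem_antidiagonal, mem_finsuppAntidiag] at hq
      obtain ⟨h1, h2, h3⟩ := hq
      by_cases hi : i ∈ S q.1
      · have := Finset.single_le_sum (f := fun i => q.2.2 i) (fun _ _ => Nat.zero_le _) hi
        rw [show (∑ i ∈ S q.1, q.2.2 i) = q.2.1.1 from h2] at this
        show q.2.2 i < d + 1
        omega
      · have : q.2.2 i = 0 := Finsupp.notMem_support_iff.1 fun h => hi (h3 h)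
        omega
    · simp only [Finset.mem_sigma, mem_univ, true_and, HasAntidiagonal.mem_antidiagonal, mem_finsuppAntidiag] at hq
      intro i hi
      simpa [S] using hq.2.2 (Finsupp.mem_support_iff.2 hi)
    · simp only [Finset.mem_sigma, mem_univ, true_and, HasAntidiagonal.mem_antidiagonal, mem_finsuppAntidiag] at hq
      obtain ⟨h1, h2, h3⟩ := hq
      show ∑ i, q.2.2 i ≤ d
      rw [← Finset.sum_subset (subset_univ (S q.1)) fun i _ hi =>
        Finsupp.notMem_support_iff.1 fun h => hi (h3 h)]
      rw [show (∑ i ∈ S q.1, q.2.2 i) = q.2.1.1 from h2]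
      omega
    · intro a _
      have hsub : ∀ i, i ∉ S a.1.1 → (a.1.2 i : ℕ) = 0 := fun i hi => by
        by_contra h
        exact hi (by simpa [S] using a.2.1 i h)
      simp only [Finset.mem_sigma, mem_univ, true_and, HasAntidiagonal.mem_antidiagonal, mem_finsuppAntidiag]
      refine ⟨Nat.add_sub_cancel' a.2.2, ?_, fun i hi => ?_⟩
      · exact Finset.sum_subset (subset_univ _) fun i _ hi => hsub i hi
      · by_contra h
        exact Finsupp.mem_support_iff.1 hi (hsub i h)
    · intros; exact mem_univ _
    · intro a _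
      exact Subtype.ext (Prod.ext rfl (funext fun i => Fin.ext rfl))
    · intro q hq
      simp only [Finset.mem_sigma, mem_univ, true_and, HasAntidiagonal.mem_antidiagonal, mem_finsuppAntidiag] at hq
      obtain ⟨b, ⟨⟨e, f⟩, l⟩⟩ := q
      obtain ⟨h1, h2, h3⟩ := hq
      have hl : ∑ i, l i = e := by
        rw [← Finset.sum_subset (subset_univ (S b)) fun i _ hi =>
          Finsupp.notMem_support_iff.1 fun h => hi (h3 h)]
        exact h2
      simp only [Idx.len, hl]
      have hf : d - e = f := by simp only at h1; omega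
      rw [hf]
      congr 2
      exact Finsupp.ext fun i => rfl
    · intros; rfl
  rw [key, Finset.sum_mul]
  have hcoe : ((∑ b, F b * (1 - Polynomial.X) ^ (s - (S b).card) : Polynomial K) : PowerSeries K) =
      ∑ b, (PowerSeries.mk fun e => w e b) * (1 - PowerSeries.X) ^ (s - (S b).card) := by
    rw [← Polynomial.coeToPowerSeries.ringHom_apply, map_sum]
    refine sum_congr rfl fun b _ => ?_
    rw [map_mul, map_pow, map_sub, map_one]
    simp [hF]
  rw [hcoe]
  refine sum_congr rfl fun b _ => ?_
  have hle : (S b).card ≤ s := (card_le_univ _).trans_eq (Fintype.card_fin s)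
  have hpow : (1 - PowerSeries.X : PowerSeries K) ^ s =
      (1 - PowerSeries.X) ^ (S b).card * (1 - PowerSeries.X) ^ (s - (S b).card) := by
    rw [← pow_add, Nat.add_sub_cancel' hle]
  rw [hpow]
  calc _ = (PowerSeries.mk 1 * (1 - PowerSeries.X : PowerSeries K)) ^ (S b).card *
        ((PowerSeries.mk fun e => w e b) * (1 - PowerSeries.X) ^ (s - (S b).card)) := by rw [mul_pow]; ring
    _ = _ := by rw [PowerSeries.mk_one_mul_one_sub_eq_one, one_pow, one_mul]

theorem iSup_stable {L : Type*} [CompleteLattice L] {s c D : ℕ} (g : ℕ → (Fin s → Fin (c + 1)) → L)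
    (hg : ∀ e b, D < e → g e b = ⊥) {d : ℕ} (hd : D < d) :
    (⨆ a : Idx s c d, g (d - a.len) a.1.1) = ⨆ b, ⨆ e, ⨆ (_ : ∃ i, (b i : ℕ) = c), g e b := by
  classical
  refine le_antisymm (iSup_le fun a => ?_) (iSup_le fun b => iSup_le fun e => iSup_le fun hb => ?_)
  · by_cases h : ∃ i, (a.1.1 i : ℕ) = c
    · exact le_iSup_of_le a.1.1 (le_iSup_of_le (d - a.len) (le_iSup_of_le h le_rfl))
    · have : a.len = 0 := Finset.sum_eq_zero fun i _ => by
        by_contra hi
        exact h ⟨i, a.2.1 i hi⟩
      rw [this, hg _ _ (by omega)]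
      exact bot_le
  · rcases Nat.lt_or_ge D e with he | he
    · rw [hg _ _ he]; exact bot_le
    obtain ⟨i, hi⟩ := hb
    let n : Fin s → Fin (d + 1) := Pi.single i ⟨d - e, by omega⟩
    have hn : ∀ j, (n j : ℕ) = if j = i then d - e else 0 := fun j => by
      by_cases h : j = i
      · subst h; simp [n]
      · simp [n, h]
    let a : Idx s c d := ⟨(b, n), fun j hj => by
      simp only [hn] at hj
      split_ifs at hj with h
      · exact h ▸ hi
      · exact absurd rfl hj, by simp only [hn]; simp⟩
    refine le_iSup_of_le a (le_of_eq ?_)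
    have : a.len = d - e := by simp only [Idx.len, a, hn]; simp
    rw [this, show d - (d - e) = e by omega]

end Groth.Agent.HilbCurve12
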