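import Groth.Agent.HilbCurve12.Strata
import Groth.Agent.HilbCurve12.HilbOpen
import Mathlib.AlgebraicGeometry.AffineScheme

/-!
The decomposition of the punctual Hilbert schemes at a point of a curve on an arbitrary scheme.
-/

set_option autoImplicit false
set_option linter.style.haveILetI false
set_option maxHeartbeats 1600000
set_option backward.isDefEq.respectTransparency false
set_option backward.isDefEq.respectTransparency.types false

universe u

open CategoryTheory CategoryTheory.Limits AlgebraicGeometry TopologicalSpace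
open scoped TensorProduct

noncomputable section

namespace Groth.Agent.HilbCurve12

open Groth.Agent.Grass5.Hilb Groth.Agent.Grass5.Punct Groth.Agent.HilbZeta12

theorem exists_open_hilb' {U X S : Scheme.{u}} (i : U ⟶ X) [IsOpenImmersion i] (f : X ⟶ S) [IsSeparated f]
    (f' : U ⟶ S) (hf : i ≫ f = f') {d : ℕ} {H : Over S} (Z : HilbD.Obj f d H)
    (hZ : HilbD.IsUniversal f d H Z) :
    ∃ (H' : Over S) (j : H' ⟶ H) (Z' : HilbD.Obj f' d H'), IsOpenImmersion j.left ∧
      HilbD.IsUniversal f' d H' Z' ∧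
      Set.range j.left = {h | InFibre f (Set.range i) Z.1 h} ∧
      ∀ (P : Set U) (t : H'.left), InFibre f' P Z'.1 t ↔ InFibre f (i '' P) Z.1 (j.left t) := by
  subst hf
  exact exists_open_hilb i f Z hZ

theorem exists_strata {k : Type u} [Field k] [IsAlgClosed k] {X : Scheme.{u}} (f : X ⟶ Spec (CommRingCat.of k))
    [LocallyOfFiniteType f] [IsSeparated f] [AlgebraicGeometry.IsReduced X] {x₀ : X}
    (hx₀ : IsClosed ({x₀} : Set X)) (hdim : ringKrullDim (X.presheaf.stalk x₀) = 1)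
    (H : ℕ → Over (Spec (CommRingCat.of k))) (Z : ∀ d, HilbD.Obj f d (H d))
    (hZ : ∀ d, HilbD.IsUniversal f d (H d) (Z d))
    [∀ d, LocallyOfFiniteType (H d).hom] [∀ d, QuasiCompact (H d).hom]
    (HP : ℕ → Scheme.{u}) (ι : ∀ d, HP d ⟶ (H d).left) [∀ d, IsClosedImmersion (ι d)]
    (hι : ∀ d, Set.range (ι d) = {h | InFibre f ({x₀} : Set X) (Z d).1 h}) :
    ∃ s : ℕ, Brnch.numBranchesAt X x₀ = (s : ℕ∞) ∧ 0 < s ∧
      ∃ (c D : ℕ) (W : ℕ → (Fin s → Fin (c + 1)) → Scheme.{u})
        (w : ∀ e b, W e b ⟶ Spec (CommRingCat.of k))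
        (_ : ∀ e b, LocallyOfFiniteType (w e b)) (_ : ∀ e b, QuasiCompact (w e b)),
        (∀ e b, D < e → IsEmpty (W e b)) ∧
        ∀ d, K0Var.cl (ι d ≫ (H d).hom) = ∑ a : Idx s c d, K0Var.cl (w (d - a.len) a.1.1) ∧
          topologicalKrullDim (HP d) = ⨆ a : Idx s c d, topologicalKrullDim (W (d - a.len) a.1.1) := by
  obtain ⟨U, hU, hxU, -⟩ := exists_isAffineOpen_mem_and_subset (show x₀ ∈ (⊤ : X.Opens) from trivial)
  letI : Algebra k Γ(X, U) := (Spec.preimage (hU.fromSpec ≫ f)).hom.toAlgebra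
  have hf : hU.fromSpec ≫ f = str k Γ(X, U) := (Spec.map_preimage _).symm
  haveI : Algebra.FiniteType k Γ(X, U) := by
    have h1 : LocallyOfFiniteType (hU.fromSpec ≫ f) := inferInstance
    rw [hf] at h1
    exact RingHom.finiteType_algebraMap.1 ((HasRingHomProperty.Spec_iff (P := @LocallyOfFiniteType)).1 h1)
  haveI : IsNoetherianRing Γ(X, U) := Algebra.FiniteType.isNoetherianRing k _
  let y₀ : Spec (CommRingCat.of Γ(X, U)) := hU.primeIdealOf ⟨x₀, hxU⟩
  have hy₀ : hU.fromSpec y₀ = x₀ := hU.fromSpec_primeIdealOf ⟨x₀, hxU⟩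
  have hpre : hU.fromSpec ⁻¹' {x₀} = {y₀} :=
    Set.ext fun y => ⟨fun h => hU.fromSpec.isOpenEmbedding.injective (h.trans hy₀.symm), fun h => h ▸ hy₀⟩
  have hmax : y₀.asIdeal.IsMaximal := (PrimeSpectrum.isClosed_singleton_iff_isMaximal y₀).1
    (hpre ▸ hx₀.preimage hU.fromSpec.continuous)
  haveI := hmax
  letI : Algebra Γ(X, U) (X.presheaf.stalk x₀) := X.presheaf.algebra_section_stalk ⟨x₀, hxU⟩
  haveI : IsLocalization.AtPrime (X.presheaf.stalk x₀) y₀.asIdeal := hU.isLocalization_stalk ⟨x₀, hxU⟩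
  letI : Algebra k (X.presheaf.stalk x₀) :=
    ((algebraMap Γ(X, U) (X.presheaf.stalk x₀)).comp (algebraMap k Γ(X, U))).toAlgebra
  haveI : IsScalarTower k Γ(X, U) (X.presheaf.stalk x₀) := IsScalarTower.of_algebraMap_eq fun _ => rfl
  obtain ⟨s, hs, ⟨M⟩⟩ := exists_curveModel (k := k) (R := Γ(X, U)) y₀.asIdeal (X.presheaf.stalk x₀) hdim
  refine ⟨s, hs, M.pos, M.c, s * (2 * M.c), ?_⟩
  choose H' j Z' hj hZ' hjr hP using fun d => exists_open_hilb' hU.fromSpec f (str k Γ(X, U)) hf (Z d) (hZ d)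
  haveI := hj
  haveI : ∀ d, LocallyOfFiniteType (H' d).hom := fun d => by rw [← Over.w (j d)]; infer_instance
  haveI : ∀ d, QuasiCompact (H' d).hom := fun d => by
    haveI : IsLocallyNoetherian (H d).left := LocallyOfFiniteType.isLocallyNoetherian (H d).hom
    rw [← Over.w (j d)]
    infer_instance
  let HP' : ℕ → Scheme.{u} := fun d => pullback (ι d) (j d).left
  let ι' : ∀ d, HP' d ⟶ (H' d).left := fun d => pullback.snd (ι d) (j d).left
  haveI : ∀ d, IsClosedImmersion (ι' d) := fun d => inferInstance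
  have hι' : ∀ d, Set.range (ι' d) =
      {h | InFibre (str k Γ(X, U)) ({y₀} : Set ↥(Spec (CommRingCat.of Γ(X, U)))) (Z' d).1 h} := fun d => by
    ext t
    rw [Scheme.Pullback.range_snd, hι d, Set.mem_preimage]
    refine Iff.trans ?_ (hP d {y₀} t).symm
    rw [Set.image_singleton, hy₀]
    rfl
  obtain ⟨W, w, hw1, hw2, hW, hdec⟩ := exists_decomposition M Z' hZ' ι' hι' hmax
  refine ⟨W, w, hw1, hw2, hW, fun d => ?_⟩
  haveI : Surjective (pullback.fst (ι d) (j d).left) := ⟨fun p => by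
    obtain ⟨q, hq⟩ : ι d p ∈ Set.range (j d).left := by
      rw [hjr d]
      intro z hz
      exact ⟨y₀, hy₀.trans ((hι d).le ⟨p, rfl⟩ z hz).symm⟩
    obtain ⟨z, hz, -⟩ := Scheme.Pullback.exists_preimage_pullback p q hq.symm
    exact ⟨z, hz⟩⟩
  haveI : IsIso (pullback.fst (ι d) (j d).left) :=
    (isIso_iff_isOpenImmersion_and_surjective _).2 ⟨inferInstance, inferInstance⟩
  constructor
  · rw [← (hdec d).1]
    refine K0Var.cl_congr _ _ (asIso (pullback.fst (ι d) (j d).left)).symm ?_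
    show inv (pullback.fst (ι d) (j d).left) ≫ ι' d ≫ (H' d).hom = _
    rw [IsIso.inv_comp_eq, ← Over.w (j d)]
    exact (pullback.condition_assoc _).symm
  · rw [← (hdec d).2]
    exact (IsHomeomorph.topologicalKrullDim_eq _ (pullback.fst (ι d) (j d).left).homeomorph.isHomeomorph).symm

end Groth.Agent.HilbCurve12
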