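import Groth.Agent.HilbCurve12.Orders
import Mathlib.LinearAlgebra.Basis.VectorSpace

/-!
Translation of punctual ideals along the branches of a curve.
-/

set_option autoImplicit false
set_option linter.style.haveILetI false
set_option maxHeartbeats 1600000
set_option backward.isDefEq.respectTransparency false
set_option backward.isDefEq.respectTransparency.types false

universe u

open scoped TensorProduct

noncomputable section

namespace Groth.Agent.HilbCurve12

/-- multiplication by `X ^ n i` on the truncation of the branch `i` -/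
def mulShift {s : ℕ} (n : Fin s → ℕ) (K : Type u) [Field K] (N : ℕ) : Trunc K s N →ₗ[K] Trunc K s N :=
  LinearMap.pi fun i => LinearMap.pi fun j =>
    if n i ≤ (j : ℕ) then
      (LinearMap.proj (R := K) (φ := fun _ : Fin N => K) (⟨(j : ℕ) - n i, by omega⟩ : Fin N)).comp
        (LinearMap.proj (R := K) (φ := fun _ : Fin s => Fin N → K) i)
    else 0

variable {k : Type u} [Field k] {R : Type u} [CommRing R] [Algebra k R] {m : Ideal R} {s : ℕ}
  (M : CurveModel k R m s) (n : Fin s → ℕ)

theorem mulShift_trunc (K : Type u) [Field K] (N : ℕ) (f : Fin s → PowerSeries K) :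
    mulShift n K N (trunc K N f) = trunc K N fun i => PowerSeries.X ^ n i * f i := by
  funext i j
  rw [trunc_apply, PowerSeries.coeff_X_pow_mul']
  simp only [mulShift, LinearMap.pi_apply]
  split_ifs with h
  · simp [trunc_apply]
  · simp

theorem exists_section (N : ℕ) : ∃ sec : Trunc k s N →ₗ[k] R, ∀ r,
    trunc k N (M.φ (sec (trunc k N (M.φ r)))) = trunc k N (M.φ r) := by
  let T : R →ₗ[k] Trunc k s N := (trunc k N).comp M.φ.toLinearMap
  obtain ⟨g, hg⟩ := T.rangeRestrict.exists_rightInverse_of_surjective T.range_rangeRestrict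
  obtain ⟨sec, hsec⟩ := g.exists_extend
  refine ⟨sec, fun r => ?_⟩
  have h1 : sec (T r) = g (T.rangeRestrict r) := LinearMap.congr_fun hsec (T.rangeRestrict r)
  have h2 := congrArg Subtype.val (LinearMap.congr_fun hg (T.rangeRestrict r))
  show T (sec (T r)) = T r
  rw [h1]
  exact h2

/-- a linear section of the truncated expansion -/
def sec (N : ℕ) : Trunc k s N →ₗ[k] R := (exists_section M N).choose

/-- the translation of a truncation, lifted to the ring -/
def sigma (N : ℕ) : R →ₗ[k] R := (sec M N).comp ((mulShift n k N).comp ((trunc k N).comp M.φ.toLinearMap))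

variable {K : Type u} [Field K] [Algebra k K]

/-- `x` translated is congruent to `y` -/
def IsShift (N : ℕ) (x y : K ⊗[k] R) : Prop :=
  Cg K N (expand M K y) fun i => PowerSeries.X ^ n i * expand M K x i

theorem isShift_iff (N : ℕ) (x y : K ⊗[k] R) :
    IsShift M n N x y ↔ truncExpand M K N y = mulShift n K N (truncExpand M K N x) := by
  rw [IsShift, cg_iff_trunc]
  show _ ↔ trunc K N (expand M K y) = mulShift n K N (trunc K N (expand M K x))
  rw [mulShift_trunc]

/-- the section over an extension field -/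
def secK (N : ℕ) : Trunc K s N →ₗ[K] K ⊗[k] R :=
  ∑ i : Fin s, ∑ j : Fin N,
    ((LinearMap.proj (R := K) (φ := fun _ : Fin N => K) j).comp
      (LinearMap.proj (R := K) (φ := fun _ : Fin s => Fin N → K) i)).smulRight
      ((1 : K) ⊗ₜ[k] sec M N (Pi.single i (Pi.single j 1)))

theorem secK_map (N : ℕ) (v : Trunc k s N) :
    secK M (K := K) N (fun i j => algebraMap k K (v i j)) = (1 : K) ⊗ₜ[k] sec M N v := by
  have hv : v = ∑ i : Fin s, ∑ j : Fin N, v i j • (Pi.single i (Pi.single j 1) : Trunc k s N) := by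
    funext a b
    simp only [Finset.sum_apply, Pi.smul_apply, smul_eq_mul]
    rw [Finset.sum_eq_single a, Finset.sum_eq_single b]
    · simp
    · intro j _ hj; simp [Ne.symm hj]
    · simp
    · intro i _ hi
      exact Finset.sum_eq_zero fun j _ => by simp [Ne.symm hi]
    · simp
  conv_rhs => rw [hv]
  simp only [map_sum, map_smul, TensorProduct.tmul_sum, TensorProduct.tmul_smul]
  simp only [secK, LinearMap.sum_apply, LinearMap.smulRight_apply, LinearMap.comp_apply, LinearMap.proj_apply,
    algebraMap_smul]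

theorem truncExpand_secK (N : ℕ) (x : K ⊗[k] R) :
    truncExpand M K N (secK M N (truncExpand M K N x)) = truncExpand M K N x := by
  induction x with
  | zero => simp
  | add a b ha hb => simp only [map_add, ha, hb]
  | tmul a r =>
    have h1 : ∀ r : R, truncExpand M K N ((1 : K) ⊗ₜ[k] r) = fun i j => algebraMap k K (trunc k N (M.φ r) i j) :=
      fun r => funext fun i => funext fun j => by rw [truncExpand_tmul, one_mul]
    have ha : a ⊗ₜ[k] r = a • ((1 : K) ⊗ₜ[k] r) := by rw [TensorProduct.smul_tmul', smul_eq_mul, mul_one]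
    rw [ha, map_smul, map_smul, map_smul, h1, secK_map, h1, sec, (exists_section M N).choose_spec]

theorem sigma_baseChange (N : ℕ) (x : K ⊗[k] R) :
    (sigma M n N).baseChange K x = secK M N (mulShift n K N (truncExpand M K N x)) := by
  induction x with
  | zero => simp
  | add a b ha hb => simp only [map_add, ha, hb]
  | tmul a r =>
    have ha : truncExpand M K N (a ⊗ₜ[k] r) = a • fun i j => algebraMap k K (trunc k N (M.φ r) i j) :=
      funext fun i => funext fun j => by rw [truncExpand_tmul, Pi.smul_apply, Pi.smul_apply, smul_eq_mul]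
    have hm : mulShift n K N (fun i j => algebraMap k K (trunc k N (M.φ r) i j)) =
        fun i j => algebraMap k K (mulShift n k N (trunc k N (M.φ r)) i j) := by
      funext i j
      simp only [mulShift, LinearMap.pi_apply]
      split_ifs with h <;> simp
    rw [ha, map_smul, map_smul, hm, secK_map, LinearMap.baseChange_tmul, TensorProduct.smul_tmul', smul_eq_mul,
      mul_one]
    rfl

theorem isShift_sigma {N : ℕ} {x y : K ⊗[k] R} (h : IsShift M n N x y) :
    IsShift M n N x ((sigma M n N).baseChange K x) := by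
  rw [isShift_iff] at h ⊢
  rw [sigma_baseChange, ← h, truncExpand_secK]

theorem exists_isShift {b : Fin s → ℕ} (hnb : ∀ i, n i ≠ 0 → M.c ≤ b i) (N : ℕ) {x : K ⊗[k] R}
    (hx : ∀ i, (PowerSeries.X : PowerSeries K) ^ b i ∣ expand M K x i) : ∃ y, IsShift M n N x y := by
  obtain ⟨z, hz⟩ := exists_approx M K (fun i => PowerSeries.X ^ n i * expand M K x i - expand M K x i)
    (fun i => by
      rcases eq_or_ne (n i) 0 with h | h
      · simp [h]
      · have h1 : (PowerSeries.X : PowerSeries K) ^ M.c ∣ expand M K x i :=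
          (pow_dvd_pow _ (hnb i h)).trans (hx i)
        exact dvd_sub (dvd_mul_of_dvd_right h1 _) h1) N
  refine ⟨x + z, fun i => (hz i).trans (dvd_of_eq ?_)⟩
  rw [map_add, Pi.add_apply]
  ring

/-- the translate of an ideal -/
def shiftIdeal (b : Fin s → ℕ) (hnb : ∀ i, n i ≠ 0 → M.c ≤ b i) (N : ℕ) (J : Ideal (K ⊗[k] R))
    (hJ : ∀ x ∈ J, ∀ i, (PowerSeries.X : PowerSeries K) ^ b i ∣ expand M K x i) : Ideal (K ⊗[k] R) where
  carrier := {y | ∃ x ∈ J, IsShift M n N x y}
  add_mem' := fun {y y'} ⟨x, hx, h⟩ ⟨x', hx', h'⟩ => ⟨x + x', J.add_mem hx hx', fun i => by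
    rw [map_add, Pi.add_apply]
    exact (dvd_add (h i) (h' i)).trans (dvd_of_eq (by simp only [map_add, Pi.add_apply]; ring))⟩
  zero_mem' := ⟨0, J.zero_mem, fun i => by simp⟩
  smul_mem' := fun r y ⟨x, hx, h⟩ => ⟨r * x, J.mul_mem_left r hx, fun i => by
    rw [smul_eq_mul, map_mul, Pi.mul_apply]
    exact ((h i).mul_left (expand M K r i)).trans (dvd_of_eq (by simp only [map_mul, Pi.mul_apply]; ring))⟩

theorem finrank_ker_mulShift {N : ℕ} (hN : ∀ i, n i ≤ N) :
    Module.finrank K (LinearMap.ker (mulShift n K N)) = ∑ i, n i := by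
  let e : LinearMap.ker (mulShift n K N) ≃ₗ[K] ∀ i, Fin (n i) → K :=
    { toFun := fun v i j => (v : Trunc K s N) i ⟨N - n i + j, by have := hN i; omega⟩
      map_add' := fun _ _ => rfl
      map_smul' := fun _ _ => rfl
      invFun := fun w => ⟨fun i j => if h : N - n i ≤ (j : ℕ) then w i ⟨(j : ℕ) - (N - n i), by omega⟩ else 0, by
        rw [LinearMap.mem_ker]
        funext i j
        simp only [mulShift, LinearMap.pi_apply]
        split_ifs with h
        · simp only [LinearMap.comp_apply, LinearMap.proj_apply]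
          rw [dif_neg (by omega)]
          rfl
        · rfl⟩
      left_inv := fun v => Subtype.ext (funext fun i => funext fun j => by
        dsimp only
        split_ifs with h
        · exact congrArg _ (Fin.ext (by simp only; omega))
        · have h2 := congrFun (congrFun (LinearMap.mem_ker.1 v.2) i)
            ⟨(j : ℕ) + n i, by have := hN i; omega⟩
          simp only [mulShift, LinearMap.pi_apply, Nat.le_add_left, if_true, LinearMap.comp_apply,
            LinearMap.proj_apply] at h2
          exact h2.symm.trans (congrArg _ (Fin.ext (by simp))))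
      right_inv := fun w => funext fun i => funext fun j => by
        dsimp only
        rw [dif_pos (by omega)]
        exact congrArg _ (Fin.ext (by simp only; omega)) }
  rw [e.finrank_eq, Module.finrank_pi_fintype]
  simp

variable {n}

/-- kernel of the shift inside an ideal containing high orders -/
theorem ker_le_map {N : ℕ} {J : Ideal (K ⊗[k] R)}
    (hhigh : ∀ x : K ⊗[k] R, (∀ i, (PowerSeries.X : PowerSeries K) ^ (N - n i) ∣ expand M K x i) → x ∈ J)
    (hc : ∀ i, M.c + n i ≤ N) :
    LinearMap.ker (mulShift n K N) ≤ (J.restrictScalars K).map (truncExpand M K N) := by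
  intro v hv
  have hv0 : ∀ (i : Fin s) (j : Fin N), (j : ℕ) < N - n i → v i j = 0 := fun i j hj => by
    have := congrFun (congrFun (LinearMap.mem_ker.1 hv) i) ⟨(j : ℕ) + n i, by omega⟩
    simpa [mulShift] using this
  let f : Fin s → PowerSeries K := fun i => PowerSeries.mk fun j => if h : j < N then v i ⟨j, h⟩ else 0
  obtain ⟨x, hx⟩ := exists_approx M K f (fun i => by
    rw [PowerSeries.X_pow_dvd_iff]
    intro j hj
    have := hc i
    rw [PowerSeries.coeff_mk, dif_pos (by omega)]
    exact hv0 i ⟨j, by omega⟩ (show j < N - n i by omega)) N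
  have hT : truncExpand M K N x = v := by
    show trunc K N (expand M K x) = v
    rw [(cg_iff_trunc K).1 hx]
    funext i j
    simp [f, trunc_apply]
  refine ⟨x, hhigh x fun i => ?_, hT⟩
  rw [PowerSeries.X_pow_dvd_iff]
  intro j hj
  have := congrFun (congrFun hT i) ⟨j, by omega⟩
  exact this.trans (hv0 i _ hj)

theorem finrank_shift (N : ℕ) {J J' : Ideal (K ⊗[k] R)}
    (hN : ∀ x : K ⊗[k] R, Cg K N (expand M K x) 0 → x ∈ J)
    (hN' : ∀ x : K ⊗[k] R, Cg K N (expand M K x) 0 → x ∈ J')
    (hker : LinearMap.ker (mulShift n K N) ≤ (J.restrictScalars K).map (truncExpand M K N))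
    (hn : ∀ i, n i ≤ N)
    (h : (J'.restrictScalars K).map (truncExpand M K N) =
      ((J.restrictScalars K).map (truncExpand M K N)).map (mulShift n K N)) :
    Module.finrank K ((K ⊗[k] R) ⧸ J') = Module.finrank K ((K ⊗[k] R) ⧸ J) + ∑ i, n i := by
  have h1 := (finrank_quotient_eq M N hN).2
  have h2 := (finrank_quotient_eq M N hN').2
  set U := (J.restrictScalars K).map (truncExpand M K N)
  have h3 := LinearMap.finrank_range_add_finrank_ker ((mulShift n K N).domRestrict U)
  rw [LinearMap.range_domRestrict] at h3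
  have h4 : Module.finrank K (LinearMap.ker ((mulShift n K N).domRestrict U)) = ∑ i, n i := by
    rw [← finrank_ker_mulShift (K := K) n hn, LinearMap.ker_domRestrict]
    exact (Submodule.comapSubtypeEquivOfLe hker).finrank_eq
  rw [h] at h2
  omega

theorem ideal_eq_of_le_of_finrank {A : Type u} [CommRing A] [Algebra K A] {I J : Ideal A} (hle : I ≤ J)
    (hI : Module.Finite K (A ⧸ I)) (hJ : Module.Finite K (A ⧸ J))
    (h : Module.finrank K (A ⧸ I) = Module.finrank K (A ⧸ J)) : I = J := by
  let f := (Ideal.Quotient.factorₐ K hle).toLinearMap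
  have hinj : Function.Injective f :=
    (LinearMap.injective_iff_surjective_of_finrank_eq_finrank h).2 (Ideal.Quotient.factor_surjective hle)
  refine le_antisymm hle fun x hx => ?_
  rw [← Ideal.Quotient.eq_zero_iff_mem] at hx ⊢
  exact hinj (by rw [map_zero]; exact hx)

variable {b : Fin s → ℕ} (hnb : ∀ i, n i ≠ 0 → M.c ≤ b i)

/-- **Translation of an ideal.** -/
theorem good_shift [IsNoetherianRing R] {N d : ℕ}
    (hN : ∀ d' ≤ d + ∑ i, n i, ∀ J : Ideal (K ⊗[k] R), Good (m := m) d' J →
      ∀ x : K ⊗[k] R, Cg K N (expand M K x) 0 → x ∈ J)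
    (hbn : ∀ i, b i + n i + M.c + 1 ≤ N) {J : Ideal (K ⊗[k] R)} (hJ : Good (m := m) d J) (hb : HasType M J b) :
    Good (m := m) (d + ∑ i, n i) (shiftIdeal M n b hnb N J fun x hx i => (hb i).1 x hx) ∧
      HasType M (shiftIdeal M n b hnb N J fun x hx i => (hb i).1 x hx) fun i => b i + n i := by
  set J' := shiftIdeal M n b hnb N J fun x hx i => (hb i).1 x hx
  have hNJ := hN d (Nat.le_add_right _ _) J hJ
  have hN' : ∀ x : K ⊗[k] R, Cg K N (expand M K x) 0 → x ∈ J' := fun x hx =>
    ⟨0, J.zero_mem, fun i => by simpa using hx i⟩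
  have hhigh : ∀ x : K ⊗[k] R,
      (∀ i, (PowerSeries.X : PowerSeries K) ^ (N - n i) ∣ expand M K x i) → x ∈ J := fun x hx =>
    mem_of_hasType M hNJ hb fun i => (pow_dvd_pow _ (by have := hbn i; omega)).trans (hx i)
  have hmap : (J'.restrictScalars K).map (truncExpand M K N) =
      ((J.restrictScalars K).map (truncExpand M K N)).map (mulShift n K N) := by
    refine le_antisymm ?_ ?_
    · rintro _ ⟨y, ⟨x, hx, hxy⟩, rfl⟩
      exact ⟨_, ⟨x, hx, rfl⟩, ((isShift_iff M n N x y).1 hxy).symm⟩
    · rintro _ ⟨_, ⟨x, hx, rfl⟩, rfl⟩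
      obtain ⟨y, hy⟩ := exists_isShift M n hnb N (fun i => (hb i).1 x hx)
      exact ⟨y, ⟨x, hx, hy⟩, (isShift_iff M n N x y).1 hy⟩
  have hfr := finrank_shift M N hNJ hN' (ker_le_map M hhigh fun i => by have := hbn i; omega)
    (fun i => by have := hbn i; omega) hmap
  refine ⟨⟨(finrank_quotient_eq M N hN').1, by rw [hfr, hJ.finrank], supp_of_small M N hN'⟩, fun i => ⟨?_, ?_⟩⟩
  · rintro y ⟨x, hx, hxy⟩
    have h1 := (pow_dvd_pow (PowerSeries.X : PowerSeries K) (by have := hbn i; omega : b i + n i ≤ N)).trans (hxy i)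
    refine (dvd_sub_left ?_).1 h1
    rw [pow_add, mul_comm]
    exact mul_dvd_mul_left _ ((hb i).1 x hx)
  · intro hcon
    obtain ⟨x, hx, hx'⟩ : ∃ x ∈ J, ¬ (PowerSeries.X : PowerSeries K) ^ (b i + 1) ∣ expand M K x i := by
      simpa [OrdGe] using (hb i).2
    obtain ⟨y, hy⟩ := exists_isShift M n hnb N (fun i => (hb i).1 x hx)
    have h2 : (PowerSeries.X : PowerSeries K) ^ (n i + (b i + 1)) ∣ expand M K y i -
        PowerSeries.X ^ n i * expand M K x i :=
      (pow_dvd_pow _ (by have := hbn i; omega)).trans (hy i)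
    have h3 := (dvd_sub_right ((pow_dvd_pow _ (by omega : n i + (b i + 1) ≤ b i + n i + 1)).trans
      (hcon y ⟨x, hx, hy⟩))).1 h2
    rw [pow_add] at h3
    exact hx' ((mul_dvd_mul_iff_left (pow_ne_zero _ PowerSeries.X_ne_zero)).1 h3)

/-- **An ideal is a translate of exactly one ideal.** -/
theorem exists_unshift [IsNoetherianRing R] {N d' : ℕ}
    (hN : ∀ d ≤ d', ∀ J : Ideal (K ⊗[k] R), Good (m := m) d J →
      ∀ x : K ⊗[k] R, Cg K N (expand M K x) 0 → x ∈ J)
    (hbn : ∀ i, b i + n i + M.c + 1 ≤ N) {J' : Ideal (K ⊗[k] R)} (hJ' : Good (m := m) d' J')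
    (hb' : HasType M J' fun i => b i + n i) (hnb : ∀ i, n i ≠ 0 → M.c ≤ b i) :
    ∃ (d : ℕ) (J : Ideal (K ⊗[k] R)), d + ∑ i, n i = d' ∧ Good (m := m) d J ∧ HasType M J b ∧
      ∀ x ∈ J, (sigma M n N).baseChange K x ∈ J' := by
  have hN' := hN d' le_rfl J' hJ'
  let J : Ideal (K ⊗[k] R) :=
    { carrier := {x | (∀ i, (PowerSeries.X : PowerSeries K) ^ b i ∣ expand M K x i) ∧ ∃ y ∈ J', IsShift M n N x y}
      add_mem' := fun {x x'} ⟨hx, y, hy, h⟩ ⟨hx', y', hy', h'⟩ =>
        ⟨fun i => by rw [map_add, Pi.add_apply]; exact dvd_add (hx i) (hx' i), y + y', J'.add_mem hy hy', fun i => by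
          rw [map_add, Pi.add_apply]
          exact (dvd_add (h i) (h' i)).trans (dvd_of_eq (by simp only [map_add, Pi.add_apply]; ring))⟩
      zero_mem' := ⟨fun i => by simp, 0, J'.zero_mem, fun i => by simp⟩
      smul_mem' := fun r x ⟨hx, y, hy, h⟩ =>
        ⟨fun i => by rw [smul_eq_mul, map_mul, Pi.mul_apply]; exact dvd_mul_of_dvd_right (hx i) _,
          r * y, J'.mul_mem_left r hy, fun i => by
            rw [map_mul, Pi.mul_apply]
            exact ((h i).mul_left (expand M K r i)).trans
              (dvd_of_eq (by simp only [smul_eq_mul, map_mul, Pi.mul_apply]; ring))⟩ }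
  have hex : ∀ y ∈ J', ∃ x ∈ J, IsShift M n N x y := by
    intro y hy
    choose f hf using fun i =>
      (pow_dvd_pow (PowerSeries.X : PowerSeries K) (Nat.le_add_left (n i) (b i))).trans ((hb' i).1 y hy)
    have hfb : ∀ i, (PowerSeries.X : PowerSeries K) ^ b i ∣ f i := fun i => by
      have := (hb' i).1 y hy
      rw [hf i, pow_add, mul_comm] at this
      exact (mul_dvd_mul_iff_left (pow_ne_zero _ PowerSeries.X_ne_zero)).1 this
    obtain ⟨z, hz⟩ := exists_approx M K (fun i => f i - expand M K y i) (fun i => by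
      rcases eq_or_ne (n i) 0 with h | h
      · rw [hf i, h]; simp
      · have h1 := (pow_dvd_pow (PowerSeries.X : PowerSeries K) (hnb i h)).trans (hfb i)
        refine dvd_sub h1 ?_
        rw [hf i]
        exact dvd_mul_of_dvd_right h1 _) N
    have hxf : ∀ i, (PowerSeries.X : PowerSeries K) ^ N ∣ expand M K (y + z) i - f i := fun i =>
      (hz i).trans (dvd_of_eq (by rw [map_add, Pi.add_apply]; ring))
    have hshift : IsShift M n N (y + z) y := fun i => by
      show _ ∣ expand M K y i - PowerSeries.X ^ n i * expand M K (y + z) i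
      rw [hf i, ← mul_sub]
      exact dvd_mul_of_dvd_right ((dvd_neg.2 (hxf i)).trans (dvd_of_eq (neg_sub _ _))) _
    refine ⟨y + z, ⟨fun i => ?_, y, hy, hshift⟩, hshift⟩
    exact (dvd_sub_left (hfb i)).1 ((pow_dvd_pow _ (by have := hbn i; omega)).trans (hxf i))
  have hsmall : ∀ x : K ⊗[k] R,
      (∀ i, (PowerSeries.X : PowerSeries K) ^ (N - n i) ∣ expand M K x i) → x ∈ J := fun x hx =>
    ⟨fun i => (pow_dvd_pow _ (by have := hbn i; omega)).trans (hx i), 0, J'.zero_mem, fun i => by
      simp only [map_zero, Pi.zero_apply, zero_sub, dvd_neg]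
      refine (pow_dvd_pow _ (by omega : N ≤ n i + (N - n i))).trans ?_
      rw [pow_add]
      exact mul_dvd_mul_left _ (hx i)⟩
  have hNJ : ∀ x : K ⊗[k] R, Cg K N (expand M K x) 0 → x ∈ J := fun x hx => hsmall x fun i =>
    (pow_dvd_pow _ (Nat.sub_le _ _)).trans (by simpa using hx i)
  have hmap : (J'.restrictScalars K).map (truncExpand M K N) =
      ((J.restrictScalars K).map (truncExpand M K N)).map (mulShift n K N) := by
    refine le_antisymm ?_ ?_
    · rintro _ ⟨y, hy, rfl⟩
      obtain ⟨x, hx, hxy⟩ := hex y hy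
      exact ⟨_, ⟨x, hx, rfl⟩, ((isShift_iff M n N x y).1 hxy).symm⟩
    · rintro _ ⟨_, ⟨x, ⟨_, y, hy, hxy⟩, rfl⟩, rfl⟩
      exact ⟨y, hy, (isShift_iff M n N x y).1 hxy⟩
  have hfr := finrank_shift M N hNJ hN' (ker_le_map M hsmall fun i => by have := hbn i; omega)
    (fun i => by have := hbn i; omega) hmap
  rw [hJ'.finrank] at hfr
  refine ⟨_, J, hfr.symm, ⟨(finrank_quotient_eq M N hNJ).1, rfl, supp_of_small M N hNJ⟩,
    fun i => ⟨fun x hx => hx.1 i, fun hcon => ?_⟩, fun x hx => ?_⟩
  · refine (hb' i).2 fun y hy => ?_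
    obtain ⟨x, hx, hxy⟩ := hex y hy
    refine (dvd_sub_left ?_).1 ((pow_dvd_pow _ (by have := hbn i; omega : b i + n i + 1 ≤ N)).trans (hxy i))
    rw [show b i + n i + 1 = n i + (b i + 1) by ring, pow_add]
    exact mul_dvd_mul_left _ (hcon x hx)
  · obtain ⟨-, y, hy, hxy⟩ := hx
    have h1 := (isShift_iff M n N x y).1 hxy
    have h2 := (isShift_iff M n N x _).1 (isShift_sigma M n hxy)
    have h3 : (sigma M n N).baseChange K x - y ∈ J' := hN' _ (by
      rw [cg_iff_trunc, map_zero]
      show truncExpand M K N _ = 0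
      rw [map_sub, h2, h1, sub_self])
    simpa using J'.add_mem h3 hy

/-- the translation determines the translated ideal -/
theorem eq_shiftIdeal [IsNoetherianRing R] {N d : ℕ}
    (hN : ∀ d' ≤ d + ∑ i, n i, ∀ J : Ideal (K ⊗[k] R), Good (m := m) d' J →
      ∀ x : K ⊗[k] R, Cg K N (expand M K x) 0 → x ∈ J)
    (hbn : ∀ i, b i + n i + M.c + 1 ≤ N) {J J' : Ideal (K ⊗[k] R)} (hJ : Good (m := m) d J) (hb : HasType M J b)
    (hJ' : Good (m := m) (d + ∑ i, n i) J') (h : ∀ x ∈ J, (sigma M n N).baseChange K x ∈ J') :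
    shiftIdeal M n b hnb N J (fun x hx i => (hb i).1 x hx) = J' := by
  obtain ⟨hS, -⟩ := good_shift M hnb hN hbn hJ hb
  have hle : shiftIdeal M n b hnb N J (fun x hx i => (hb i).1 x hx) ≤ J' := by
    rintro y ⟨x, hx, hxy⟩
    have h1 := (isShift_iff M n N x y).1 hxy
    have h2 := (isShift_iff M n N x _).1 (isShift_sigma M n hxy)
    have h3 : y - (sigma M n N).baseChange K x ∈ J' := hN _ le_rfl J' hJ' _ (by
      rw [cg_iff_trunc, map_zero]
      show truncExpand M K N _ = 0
      rw [map_sub, h2, h1, sub_self])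
    simpa using J'.add_mem h3 (h x hx)
  exact ideal_eq_of_le_of_finrank hle hS.finite hJ'.finite (hS.finrank.trans hJ'.finrank.symm)

end Groth.Agent.HilbCurve12
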