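import Groth.Agent.HilbCurve12.Shift
import Groth.Agent.HilbCurve12.Loci
import Groth.Agent.HilbCurve12.DimPts
import Groth.Agent.HilbZeta12.Series

/-!
The strata of the punctual Hilbert schemes of a curve and the translations between them.
-/

set_option autoImplicit false
set_option linter.style.haveILetI false
set_option maxHeartbeats 1600000
set_option backward.isDefEq.respectTransparency false
set_option backward.isDefEq.respectTransparency.types false

universe u

open CategoryTheory CategoryTheory.Limits AlgebraicGeometry TopologicalSpace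
open scoped TensorProduct

noncomputable section

namespace Groth.Agent.HilbCurve12

open Groth.Agent.Grass5.Hilb Groth.Agent.Grass5.Punct Groth.Agent.HilbZeta12

variable {k : Type u} [Field k] {R : Type u} [CommRing R] [Algebra k R]
  {x₀ : Spec (CommRingCat.of R)} {s : ℕ} (M : CurveModel k R x₀.asIdeal s)
  {H : ℕ → Over (Spec (CommRingCat.of k))} (Z : ∀ d, HilbD.Obj (str k R) d (H d))
  (hZ : ∀ d, HilbD.IsUniversal (str k R) d (H d) (Z d))

theorem pointOf_eq {T : Over (Spec (CommRingCat.of k))} {K : Type u} [Field K] [Algebra k K]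
    (g : TB k K ⟶ T) (t : (TB k K).left) : g.left t = pointOf g :=
  congrArg g.left (Subsingleton.elim (α := PrimeSpectrum K) t (IsLocalRing.closedPoint K))

theorem inFibre_iff_good (hmax : x₀.asIdeal.IsMaximal) {d : ℕ} {K : Type u} [Field K] [Algebra k K]
    (g : TB k K ⟶ H d) :
    InFibre (str k R) ({x₀} : Set ↥(Spec (CommRingCat.of R))) (Z d).1 (pointOf g) ↔
      Good (m := x₀.asIdeal) d (ptIdeal (Z d) g) := by
  have h1 := within_pull_iff (str k R) (P := ({x₀} : Set ↥(Spec (CommRingCat.of R)))) (Z d).1 g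
  rw [← sh_ptIdeal, within_sh_iff x₀ (x₀.asIdeal : Set R) (Ideal.span_eq _).symm hmax] at h1
  constructor
  · intro h
    exact ⟨(finrank_ptIdeal _ g).1, (finrank_ptIdeal _ g).2, h1.2 fun t => (pointOf_eq g t).symm ▸ h⟩
  · intro h
    exact h1.1 h.supp (IsLocalRing.closedPoint K)

include hZ in
theorem pt_ext {d : ℕ} {K : Type u} [Field K] [Algebra k K] {g g' : TB k K ⟶ H d}
    (h : ptIdeal (Z d) g = ptIdeal (Z d) g') : g = g' :=
  eq_of_isUniversal (hZ d) g g' (by rw [← sh_ptIdeal, h, sh_ptIdeal])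

include hZ in
theorem exists_pt {d : ℕ} {K : Type u} [Field K] [Algebra k K] {J : Ideal (K ⊗[k] R)}
    (hJ : Good (m := x₀.asIdeal) d J) : ∃ g : TB k K ⟶ H d, ptIdeal (Z d) g = J := by
  haveI := hJ.finite
  obtain ⟨g, hg⟩ := (hZ d _ ⟨sh J, finLocFreeOfDeg_sh_of_free d J hJ.finrank⟩).exists
  exact ⟨g, ptIdeal_eq _ _ hg.symm⟩

theorem func_coeff {K : Type u} [Field K] [Algebra k K] (i : Fin s) (j : ℕ) (x : K ⊗[k] R) :
    func (((PowerSeries.coeff j).comp (LinearMap.proj i)).comp M.φ.toLinearMap) K x =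
      PowerSeries.coeff j (expand M K x i) := by
  induction x with
  | zero => simp
  | add a b ha hb => simp only [map_add, Pi.add_apply, ha, hb]
  | tmul a r => simp [func, LinearMap.liftBaseChange_tmul, coeff_expand_tmul]

/-- the points whose orders on the branch `i` are at least `n` -/
def geSet (d : ℕ) (i : Fin s) (n : ℕ) : Set (H d).left :=
  locus fun K _ _ g => OrdGe M (ptIdeal (Z d) g) i n

theorem geSet_spec (d : ℕ) (i : Fin s) (n : ℕ) : IsClosed (geSet M Z d i n) ∧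
    ∀ (K : Type u) [Field K] [Algebra k K] (g : TB k K ⟶ H d),
      OrdGe M (ptIdeal (Z d) g) i n ↔ pointOf g ∈ geSet M Z d i n := by
  refine isClosed_locus _ fun B _ _ g => ?_
  choose I hI using fun j : Fin n =>
    exists_func_eqn (Z d) (((PowerSeries.coeff (j : ℕ)).comp (LinearMap.proj i)).comp M.φ.toLinearMap) B g
  refine ⟨⨆ j, I j, fun K _ _ φ => ?_⟩
  rw [iSup_le_iff]
  simp only [← hI, func_coeff, OrdGe, PowerSeries.X_pow_dvd_iff]
  exact ⟨fun h j x hx => h x hx j j.2, fun h x hx j hj => h ⟨j, hj⟩ x hx⟩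

theorem exists_subscheme {T : Over (Spec (CommRingCat.of k))} [LocallyOfFiniteType T.hom] [QuasiCompact T.hom]
    {C O : Set T.left} (hC : IsClosed C) (hO : IsOpen O) :
    ∃ (W : Scheme.{u}) (j : W ⟶ T.left), IsImmersion j ∧ AlgebraicGeometry.IsReduced W ∧ LocallyOfFiniteType j ∧
      QuasiCompact j ∧ Set.range j = C ∩ O := by
  haveI : IsLocallyNoetherian T.left := LocallyOfFiniteType.isLocallyNoetherian T.hom
  let c := (Scheme.IdealSheafData.vanishingIdeal (⟨C, hC⟩ : Closeds T.left)).subschemeι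
  haveI := isReduced_vanishing (⟨C, hC⟩ : Closeds T.left)
  haveI : IsLocallyNoetherian (Scheme.IdealSheafData.vanishingIdeal (⟨C, hC⟩ : Closeds T.left)).subscheme :=
    LocallyOfFiniteType.isLocallyNoetherian c
  let U : (Scheme.IdealSheafData.vanishingIdeal (⟨C, hC⟩ : Closeds T.left)).subscheme.Opens :=
    ⟨c ⁻¹' O, hO.preimage c.continuous⟩
  refine ⟨U.toScheme, U.ι ≫ c, inferInstance, isReduced_of_isOpenImmersion U.ι, inferInstance, inferInstance, ?_⟩
  rw [show ((U.ι ≫ c : U.toScheme ⟶ T.left) : _ → _) = c ∘ U.ι from rfl, Set.range_comp, Scheme.Opens.range_ι]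
  show c '' (c ⁻¹' O) = C ∩ O
  rw [Set.image_preimage_eq_inter_range, range_vanishing, Set.inter_comm]
  rfl

variable {HP : ℕ → Scheme.{u}} (ι : ∀ d, HP d ⟶ (H d).left) [∀ d, IsClosedImmersion (ι d)]
  (hι : ∀ d, Set.range (ι d) = {h | InFibre (str k R) ({x₀} : Set ↥(Spec (CommRingCat.of R))) (Z d).1 h})
  (hmax : x₀.asIdeal.IsMaximal)
  [∀ d, LocallyOfFiniteType (H d).hom] [∀ d, QuasiCompact (H d).hom]

include hι hmax in
theorem mem_range_iff {d : ℕ} {K : Type u} [Field K] [Algebra k K] (g : TB k K ⟶ H d) :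
    pointOf g ∈ Set.range (ι d) ↔ Good (m := x₀.asIdeal) d (ptIdeal (Z d) g) := by
  rw [hι d]
  exact inFibre_iff_good Z hmax g

include hι hmax in
theorem exists_stratum (d : ℕ) (b : Fin s → ℕ) :
    ∃ (W : Scheme.{u}) (j : W ⟶ (H d).left), IsImmersion j ∧ AlgebraicGeometry.IsReduced W ∧
      LocallyOfFiniteType j ∧ QuasiCompact j ∧
      ∀ (K : Type u) [Field K] [Algebra k K] (g : TB k K ⟶ H d), pointOf g ∈ Set.range j ↔
        Good (m := x₀.asIdeal) d (ptIdeal (Z d) g) ∧ HasType M (ptIdeal (Z d) g) b := by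
  have hC : IsClosed (Set.range (ι d) ∩ ⋂ i, geSet M Z d i (b i)) :=
    (ι d).isClosedEmbedding.isClosed_range.inter (isClosed_iInter fun i => (geSet_spec M Z d i _).1)
  have hO : IsOpen (⋃ i, geSet M Z d i (b i + 1))ᶜ :=
    (isClosed_iUnion_of_finite fun i => (geSet_spec M Z d i _).1).isOpen_compl
  obtain ⟨W, j, h1, h2, h3, h4, hr⟩ := exists_subscheme hC hO
  refine ⟨W, j, h1, h2, h3, h4, fun K _ _ g => ?_⟩
  rw [hr]
  simp only [Set.mem_inter_iff, Set.mem_iInter, Set.mem_compl_iff, Set.mem_iUnion, not_exists,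
    ← (geSet_spec M Z d _ _).2 K g, mem_range_iff Z ι hι hmax, HasType, forall_and, and_assoc]

include hZ hι hmax in
/-- **The graph of a translation.** -/
theorem exists_graph [IsNoetherianRing R] {d d' N : ℕ} {b n : Fin s → ℕ} (hd : d + ∑ i, n i = d')
    (hnb : ∀ i, n i ≠ 0 → M.c ≤ b i)
    (hN : ∀ (K : Type u) [Field K] [Algebra k K], ∀ e ≤ d', ∀ J : Ideal (K ⊗[k] R),
      Good (m := x₀.asIdeal) e J → ∀ x : K ⊗[k] R, Cg K N (expand M K x) 0 → x ∈ J)
    (hbn : ∀ i, b i + n i + M.c + 1 ≤ N)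
    {W : Scheme.{u}} (j : W ⟶ (H d).left) [IsImmersion j] [LocallyOfFiniteType j] [QuasiCompact j]
    (hj : ∀ (K : Type u) [Field K] [Algebra k K] (g : TB k K ⟶ H d), pointOf g ∈ Set.range j ↔
      Good (m := x₀.asIdeal) d (ptIdeal (Z d) g) ∧ HasType M (ptIdeal (Z d) g) b) :
    ∃ (Q : Scheme.{u}) (qW : Q ⟶ W) (qP : Q ⟶ HP d'), LocallyOfFiniteType qW ∧ QuasiCompact qW ∧
      IsSeparated qW ∧ LocallyOfFiniteType qP ∧ QuasiCompact qP ∧ IsSeparated qP ∧
      qP ≫ ι d' ≫ (H d').hom = qW ≫ j ≫ (H d).hom ∧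
      (∀ (K : Type u) [Field K] (x : Spec (CommRingCat.of K) ⟶ W), ∃! w, w ≫ qW = x) ∧
      (∀ (K : Type u) [Field K] [Algebra k K] (g' : TB k K ⟶ H d') (w : Spec (CommRingCat.of K) ⟶ Q),
        w ≫ qP ≫ ι d' = g'.left → HasType M (ptIdeal (Z d') g') fun i => b i + n i) ∧
      (∀ (K : Type u) [Field K] [Algebra k K] (g' : TB k K ⟶ H d'),
        Good (m := x₀.asIdeal) d' (ptIdeal (Z d') g') →
        HasType M (ptIdeal (Z d') g') (fun i => b i + n i) → ∃! w, w ≫ qP ≫ ι d' = g'.left) := by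
  subst hd
  let h0 := (H d).hom
  let h1 := (H (d + ∑ i, n i)).hom
  let T : Over (Spec (CommRingCat.of k)) := Over.mk (pullback.fst (j ≫ h0) h1 ≫ j ≫ h0)
  let p₁ : T ⟶ H d := Over.homMk (pullback.fst (j ≫ h0) h1 ≫ j) (by simp [T, h0])
  let p₂ : T ⟶ H (d + ∑ i, n i) := Over.homMk (pullback.snd (j ≫ h0) h1) (by
    show _ ≫ h1 = _
    rw [← pullback.condition]; rfl)
  haveI : IsSeparated h1 := isSeparated_of_isUniversal (hZ _)
  haveI : LocallyOfFiniteType T.hom :=
    inferInstanceAs (LocallyOfFiniteType (pullback.fst (j ≫ h0) h1 ≫ j ≫ h0))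
  haveI : QuasiCompact T.hom := inferInstanceAs (QuasiCompact (pullback.fst (j ≫ h0) h1 ≫ j ≫ h0))
  obtain ⟨hCclosed, hCspec⟩ := isClosed_locus (T := T)
    (fun K _ _ g => ∀ x ∈ ptIdeal (objPull p₁ (Z d)) g,
      (sigma M n N).baseChange K x ∈ ptIdeal (objPull p₂ (Z (d + ∑ i, n i))) g)
    (fun B _ _ g => exists_map_eqn _ _ _ B g)
  set C₀ := locus (T := T) fun K _ _ g => ∀ x ∈ ptIdeal (objPull p₁ (Z d)) g,
    (sigma M n N).baseChange K x ∈ ptIdeal (objPull p₂ (Z (d + ∑ i, n i))) g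
  have hC : IsClosed (C₀ ∩ p₂.left ⁻¹' Set.range (ι (d + ∑ i, n i))) :=
    hCclosed.inter ((ι _).isClosedEmbedding.isClosed_range.preimage p₂.left.continuous)
  obtain ⟨Q, jQ, hQ1, hQ2, hQ3, hQ4, hQr⟩ := exists_subscheme (T := T) hC isOpen_univ
  rw [Set.inter_univ] at hQr
  haveI := hQ1; haveI := hQ2; haveI := hQ3; haveI := hQ4
  let qW : Q ⟶ W := jQ ≫ pullback.fst (j ≫ h0) h1
  obtain ⟨qP, hqP⟩ := exists_lift_reduced (ι (d + ∑ i, n i)) (jQ ≫ p₂.left) (by
    rintro _ ⟨z, rfl⟩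
    exact (hQr.le ⟨z, rfl⟩).2)
  haveI hqW1 : LocallyOfFiniteType qW := inferInstance
  haveI hqW2 : QuasiCompact qW := inferInstance
  haveI hqW3 : IsSeparated qW := inferInstance
  have hcomp : qP ≫ ι (d + ∑ i, n i) ≫ h1 = qW ≫ j ≫ h0 := by
    rw [reassoc_of% hqP]
    simp only [p₂, qW, Over.homMk_left, Category.assoc]
    congr 1
    exact pullback.condition.symm
  haveI : LocallyOfFiniteType (qP ≫ ι (d + ∑ i, n i) ≫ h1) := by rw [hcomp]; infer_instance
  haveI hqP1 : LocallyOfFiniteType qP := locallyOfFiniteType_of_comp qP (ι (d + ∑ i, n i) ≫ h1)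
  haveI : IsSeparated (j ≫ h0) := by
    haveI : IsSeparated h0 := isSeparated_of_isUniversal (hZ d)
    infer_instance
  haveI : IsSeparated (qP ≫ ι (d + ∑ i, n i) ≫ h1) := by rw [hcomp]; infer_instance
  haveI hqP3 : IsSeparated qP := IsSeparated.of_comp qP (ι (d + ∑ i, n i) ≫ h1)
  haveI : IsLocallyNoetherian Q := LocallyOfFiniteType.isLocallyNoetherian (jQ ≫ T.hom)
  haveI : CompactSpace Q := QuasiCompact.compactSpace_of_compactSpace (jQ ≫ T.hom)
  haveI : IsNoetherian Q := {}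
  haveI hqP2 : QuasiCompact qP := ⟨fun U _ _ => NoetherianSpace.isCompact _⟩
  -- a field valued point of the graph
  have hpair : ∀ (K : Type u) [Field K] [Algebra k K] (g : TB k K ⟶ H d) (g' : TB k K ⟶ H (d + ∑ i, n i))
      (a : Spec (CommRingCat.of K) ⟶ W), a ≫ j = g.left →
      ∀ w : Spec (CommRingCat.of K) ⟶ Q, w ≫ qW = a → w ≫ qP ≫ ι (d + ∑ i, n i) = g'.left →
      (Good (m := x₀.asIdeal) d (ptIdeal (Z d) g) ∧ HasType M (ptIdeal (Z d) g) b) ∧
      Good (m := x₀.asIdeal) (d + ∑ i, n i) (ptIdeal (Z (d + ∑ i, n i)) g') ∧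
      ∀ x ∈ ptIdeal (Z d) g, (sigma M n N).baseChange K x ∈ ptIdeal (Z (d + ∑ i, n i)) g' := by
    intro K _ _ g g' a ha w hwa hwg'
    refine ⟨(hj K g).1 ⟨a (IsLocalRing.closedPoint K), ?_⟩, ?_, ?_⟩
    · rw [← Scheme.Hom.comp_apply, ha]; rfl
    · refine (mem_range_iff Z ι hι hmax g').1 ⟨(w ≫ qP) (IsLocalRing.closedPoint K), ?_⟩
      rw [← Scheme.Hom.comp_apply, Category.assoc, hwg']; rfl
    let gw : TB k K ⟶ T := Over.homMk (w ≫ jQ) (by
      show (w ≫ jQ) ≫ pullback.fst (j ≫ h0) h1 ≫ j ≫ h0 = _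
      have : (w ≫ jQ) ≫ pullback.fst (j ≫ h0) h1 = a := by rw [Category.assoc]; exact hwa
      rw [← Category.assoc (w ≫ jQ), this, reassoc_of% ha]
      exact Over.w g)
    have e1 : gw ≫ p₁ = g := Over.OverMorphism.ext (by
      show (w ≫ jQ) ≫ pullback.fst (j ≫ h0) h1 ≫ j = g.left
      rw [← ha, ← hwa]; simp [qW])
    have e2 : gw ≫ p₂ = g' := Over.OverMorphism.ext (by
      show (w ≫ jQ) ≫ p₂.left = g'.left
      rw [← hwg', Category.assoc, hqP])
    have := (hCspec K gw).2 ((hQr.le ⟨w (IsLocalRing.closedPoint K), rfl⟩).1)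
    rwa [ptIdeal_pull, ptIdeal_pull, e1, e2] at this
  have hlift : ∀ (K : Type u) [Field K] [Algebra k K] (g : TB k K ⟶ H d) (g' : TB k K ⟶ H (d + ∑ i, n i))
      (a : Spec (CommRingCat.of K) ⟶ W), a ≫ j = g.left →
      Good (m := x₀.asIdeal) (d + ∑ i, n i) (ptIdeal (Z (d + ∑ i, n i)) g') →
      (∀ x ∈ ptIdeal (Z d) g, (sigma M n N).baseChange K x ∈ ptIdeal (Z (d + ∑ i, n i)) g') →
      ∃ w : Spec (CommRingCat.of K) ⟶ Q, w ≫ qW = a ∧ w ≫ qP ≫ ι (d + ∑ i, n i) = g'.left := by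
    intro K _ _ g g' a ha hg' hσ
    let t : Spec (CommRingCat.of K) ⟶ T.left := pullback.lift a g'.left (by
      rw [reassoc_of% ha]
      exact (Over.w g).trans (Over.w g').symm)
    let gt : TB k K ⟶ T := Over.homMk t (by
      show t ≫ pullback.fst (j ≫ h0) h1 ≫ j ≫ h0 = _
      rw [pullback.lift_fst_assoc, reassoc_of% ha]
      exact Over.w g)
    have e1 : gt ≫ p₁ = g := Over.OverMorphism.ext (by
      show t ≫ pullback.fst (j ≫ h0) h1 ≫ j = g.left
      rw [pullback.lift_fst_assoc, ha])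
    have e2 : gt ≫ p₂ = g' := Over.OverMorphism.ext (pullback.lift_snd _ _ _)
    obtain ⟨w, hw⟩ := exists_lift_reduced jQ t (by
      rintro _ ⟨z, rfl⟩
      rw [hQr, show t z = pointOf gt from pointOf_eq gt z]
      refine ⟨(hCspec K gt).1 (by rwa [ptIdeal_pull, ptIdeal_pull, e1, e2]), ?_⟩
      rw [Set.mem_preimage, show p₂.left (pointOf gt) = pointOf g' by rw [← e2]; rfl]
      exact (mem_range_iff Z ι hι hmax g').2 hg')
    refine ⟨w, ?_, ?_⟩
    · show w ≫ jQ ≫ _ = a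
      rw [reassoc_of% hw]; exact pullback.lift_fst _ _ _
    · rw [hqP, reassoc_of% hw]; exact pullback.lift_snd _ _ _
  have hwext : ∀ {K : Type u} [Field K] (w w' : Spec (CommRingCat.of K) ⟶ Q), w ≫ qW = w' ≫ qW →
      w ≫ qP ≫ ι (d + ∑ i, n i) = w' ≫ qP ≫ ι (d + ∑ i, n i) → w = w' := by
    intro K _ w w' h h'
    rw [← cancel_mono jQ]
    refine pullback.hom_ext (by simpa [qW] using h) ?_
    rw [hqP] at h'
    simpa [p₂] using h'
  refine ⟨Q, qW, qP, hqW1, hqW2, hqW3, hqP1, hqP2, hqP3, hcomp, fun K _ x => ?_,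
    fun K _ _ g' w hw => ?_, fun K _ _ g' hG hT => ?_⟩
  · letI : Algebra k K := (Spec.preimage (x ≫ j ≫ h0)).hom.toAlgebra
    let g : TB k K ⟶ H d := Over.homMk (x ≫ j) (by rw [Category.assoc]; exact (Spec.map_preimage _).symm)
    have hg := (hj K g).1 ⟨x (IsLocalRing.closedPoint K), rfl⟩
    obtain ⟨hS, -⟩ := good_shift M hnb (hN K) hbn hg.1 hg.2
    obtain ⟨g', hg'⟩ := exists_pt Z hZ hS
    obtain ⟨w, hwa, hwg'⟩ := hlift K g g' x rfl (hg'.symm ▸ hS) (fun y hy => by
      rw [hg']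
      obtain ⟨z, hz⟩ := exists_isShift M n hnb N (fun i => (hg.2 i).1 y hy)
      exact ⟨y, hy, isShift_sigma M n hz⟩)
    refine ⟨w, hwa, fun w' hw' => ?_⟩
    refine hwext w' w (hw'.trans hwa.symm) ?_
    let g'' : TB k K ⟶ H (d + ∑ i, n i) := Over.homMk (w' ≫ qP ≫ ι (d + ∑ i, n i)) (by
      rw [Category.assoc, Category.assoc, hcomp, reassoc_of% hw']
      exact (Spec.map_preimage _).symm)
    obtain ⟨-, hG'', hσ''⟩ := hpair K g g'' x rfl w' hw' rfl
    have e : g'' = g' := pt_ext Z hZ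
      ((eq_shiftIdeal M hnb (hN K) hbn hg.1 hg.2 hG'' hσ'').symm.trans hg'.symm)
    rw [hwg', ← e]
    rfl
  · let g : TB k K ⟶ H d := Over.homMk (w ≫ qW ≫ j) (by
      rw [Category.assoc, Category.assoc, ← hcomp, reassoc_of% hw]
      exact Over.w g')
    obtain ⟨hg, hG', hσ⟩ := hpair K g g' (w ≫ qW) (by rw [Category.assoc]; rfl) w rfl hw
    rw [← eq_shiftIdeal M hnb (hN K) hbn hg.1 hg.2 hG' hσ]
    exact (good_shift M hnb (hN K) hbn hg.1 hg.2).2
  · obtain ⟨e, J, he, hJ, hJb, hσ⟩ := exists_unshift M (hN K) hbn hG hT hnb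
    obtain rfl : e = d := by omega
    obtain ⟨g, hg⟩ := exists_pt Z hZ hJ
    obtain ⟨z, hz⟩ := (hj K g).2 (hg.symm ▸ ⟨hJ, hJb⟩)
    haveI : AlgebraicGeometry.IsReduced (TB k K).left :=
      inferInstanceAs (AlgebraicGeometry.IsReduced (Spec (CommRingCat.of K)))
    obtain ⟨a, ha⟩ := exists_lift_reduced j g.left (by
      rintro _ ⟨t, rfl⟩
      rw [pointOf_eq g t]
      exact ⟨z, hz⟩)
    obtain ⟨w, hwa, hwg'⟩ := hlift K g g' a ha hG (hg.symm ▸ hσ)
    refine ⟨w, hwg', fun w' hw' => ?_⟩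
    refine hwext w' w ?_ (hw'.trans hwg'.symm)
    let g₂ : TB k K ⟶ H e := Over.homMk (w' ≫ qW ≫ j) (by
      rw [Category.assoc, Category.assoc, ← hcomp, reassoc_of% hw']
      exact Over.w g')
    obtain ⟨hg₂, -, hσ₂⟩ := hpair K g₂ g' (w' ≫ qW) (by rw [Category.assoc]; rfl) w' rfl hw'
    have hJJ : ptIdeal (Z e) g₂ = J := by
      refine ideal_eq_of_le_of_finrank (fun x hx => ?_) hg₂.1.finite hJ.finite
        (hg₂.1.finrank.trans hJ.finrank.symm)
      have e1 := eq_shiftIdeal M hnb (hN K) hbn hJ hJb hG hσ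
      have h2 := hσ₂ x hx
      rw [← e1] at h2
      obtain ⟨x', hx', hxx'⟩ := h2
      obtain ⟨y, hy⟩ := exists_isShift M n hnb N (fun i => (hg₂.2 i).1 x hx)
      have h3 := isShift_sigma M n hy
      have h4 : x - x' ∈ J := mem_of_hasType M (hN K e (Nat.le_add_right _ _) J hJ) hJb fun i => by
        rw [map_sub, Pi.sub_apply]
        have h5 : (PowerSeries.X : PowerSeries K) ^ N ∣
            PowerSeries.X ^ n i * (expand M K x i - expand M K x' i) :=
          ((dvd_sub (hxx' i) (h3 i))).trans (dvd_of_eq (by ring))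
        rw [show N = n i + (N - n i) by have := hbn i; omega, pow_add] at h5
        exact (pow_dvd_pow _ (by have := hbn i; omega)).trans
          ((mul_dvd_mul_iff_left (pow_ne_zero _ PowerSeries.X_ne_zero)).1 h5)
      simpa using J.add_mem h4 hx'
    have e3 : g₂ = g := pt_ext Z hZ (hJJ.trans hg.symm)
    rw [← cancel_mono j, Category.assoc, hwa, ha, ← e3]
    rfl

/-- the indices of the translated strata -/
def Idx (s c d : ℕ) : Type :=
  {a : (Fin s → Fin (c + 1)) × (Fin s → Fin (d + 1)) //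
    (∀ i, (a.2 i : ℕ) ≠ 0 → (a.1 i : ℕ) = c) ∧ ∑ i, (a.2 i : ℕ) ≤ d}

instance (s c d : ℕ) : Fintype (Idx s c d) := by unfold Idx; exact inferInstance

/-- total translation -/
def Idx.len {s c d : ℕ} (a : Idx s c d) : ℕ := ∑ i, (a.1.2 i : ℕ)

include hZ hι hmax in
/-- **Decomposition of all punctual Hilbert schemes by finitely many strata.** -/
theorem exists_decomposition [IsNoetherianRing R] :
    ∃ (W : ℕ → (Fin s → Fin (M.c + 1)) → Scheme.{u}) (w : ∀ e b, W e b ⟶ Spec (CommRingCat.of k))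
      (_ : ∀ e b, LocallyOfFiniteType (w e b)) (_ : ∀ e b, QuasiCompact (w e b)),
      (∀ e b, s * (2 * M.c) < e → IsEmpty (W e b)) ∧
      ∀ d, K0Var.cl (ι d ≫ (H d).hom) = ∑ a : Idx s M.c d, K0Var.cl (w (d - a.len) a.1.1) ∧
        topologicalKrullDim (HP d) = ⨆ a : Idx s M.c d, topologicalKrullDim (W (d - a.len) a.1.1) := by
  choose W j hj1 hj2 hj3 hj4 hj using fun e (b : Fin s → Fin (M.c + 1)) =>
    exists_stratum M Z ι hι hmax e fun i => (b i : ℕ)
  haveI := hj1; haveI := hj2; haveI := hj3; haveI := hj4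
  refine ⟨W, fun e b => j e b ≫ (H e).hom, fun e b => inferInstance, fun e b => inferInstance,
    fun e b he => ?_, fun d => ?_⟩
  · refine ⟨fun z => ?_⟩
    let pw := (W e b).fromSpecResidueField z ≫ j e b
    letI : Algebra k ((W e b).residueField z) := (Spec.preimage (pw ≫ (H e).hom)).hom.toAlgebra
    let g : TB k ((W e b).residueField z) ⟶ H e := Over.homMk pw (Spec.map_preimage _).symm
    obtain ⟨hG, hT⟩ := (hj e b _ g).1 ⟨z, by
      show j e b z = pw (IsLocalRing.closedPoint _)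
      simp only [pw, Scheme.Hom.comp_apply]
      exact congrArg (j e b) (Scheme.fromSpecResidueField_apply _ _).symm⟩
    obtain ⟨N, hN⟩ := exists_bound M e
    have h2 : ∀ x, Cg _ (2 * M.c) (expand M ((W e b).residueField z) x) 0 → x ∈ ptIdeal (Z e) g := fun x hx =>
      mem_of_hasType M (hN _ e le_rfl _ hG) hT fun i => by
        refine (pow_dvd_pow _ ?_).trans (by simpa using hx i)
        have := (b i).2
        omega
    have h3 := (finrank_quotient_eq M (2 * M.c) h2).2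
    have h4 := Submodule.finrank_le (LinearMap.range (truncExpand M ((W e b).residueField z) (2 * M.c)))
    rw [Module.finrank_pi_fintype] at h4
    simp only [Module.finrank_fin_fun, Finset.sum_const, Finset.card_univ, Fintype.card_fin, smul_eq_mul] at h4
    rw [hG.finrank] at h3
    omega
  obtain ⟨N₀, hN₀⟩ := exists_bound M d
  set N := max N₀ M.c + 2 * M.c + d + 1 with hNdef
  have hN : ∀ (K : Type u) [Field K] [Algebra k K], ∀ e ≤ d, ∀ J : Ideal (K ⊗[k] R),
      Good (m := x₀.asIdeal) e J → ∀ x : K ⊗[k] R, Cg K N (expand M K x) 0 → x ∈ J :=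
    fun K _ _ e he J hJ x hx => hN₀ K e he J hJ x fun i => (pow_dvd_pow _ (by omega)).trans (hx i)
  have hbn : ∀ (a : Idx s M.c d) (i : Fin s), (a.1.1 i : ℕ) + (a.1.2 i : ℕ) + M.c + 1 ≤ N := fun a i => by
    have h1 := (a.1.1 i).2
    have h2 := (a.1.2 i).2
    omega
  choose Q qW qP h1 h2 h3 h4 h5 h6 hcomp hqW hP1 hP2 using fun a : Idx s M.c d =>
    exists_graph (d := d - a.len) (d' := d) (n := fun i => (a.1.2 i : ℕ)) M Z hZ ι hι hmax
      (Nat.sub_add_cancel a.2.2) (fun i hi => (a.2.1 i hi).ge) hN (hbn a) (j (d - a.len) a.1.1)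
      (hj (d - a.len) a.1.1)
  haveI := h1; haveI := h2; haveI := h3; haveI := h4; haveI := h5; haveI := h6
  have hptsP : ∀ (K : Type u) [Field K] (x : Spec (CommRingCat.of K) ⟶ HP d),
      ∃! q : Σ a, Spec (CommRingCat.of K) ⟶ Q a, q.2 ≫ qP q.1 = x := by
    intro K _ x
    letI : Algebra k K := (Spec.preimage (x ≫ ι d ≫ (H d).hom)).hom.toAlgebra
    let g : TB k K ⟶ H d := Over.homMk (x ≫ ι d) (by rw [Category.assoc]; exact (Spec.map_preimage _).symm)
    have hG := (mem_range_iff Z ι hι hmax g).1 ⟨x (IsLocalRing.closedPoint K), rfl⟩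
    obtain ⟨t, ht, htle⟩ := exists_hasType M (N := N) (fun J hJ => hN K d le_rfl J hJ) hG
    have hsum : ∑ i, (t i - M.c) ≤ d := by
      have hT' : HasType M (ptIdeal (Z d) g) fun i => min (t i) M.c + (t i - M.c) := by
        convert ht using 1
        funext i
        omega
      obtain ⟨e, J, he, -⟩ := exists_unshift M (N := N + M.c + 1) (b := fun i => min (t i) M.c)
        (n := fun i => t i - M.c)
        (fun e he J hJ x hx => hN K e he J hJ x fun i => (pow_dvd_pow _ (by omega)).trans (hx i))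
        (fun i => by have := htle i; omega) hG hT' (fun i hi => by omega)
      omega
    let a₀ : Idx s M.c d :=
      ⟨(fun i => ⟨min (t i) M.c, by omega⟩, fun i => ⟨t i - M.c, by
          have := Finset.single_le_sum (f := fun i => t i - M.c) (fun _ _ => Nat.zero_le _) (Finset.mem_univ i)
          omega⟩), fun i hi => by simp only at hi ⊢; omega, hsum⟩
    have hty : (fun i => (a₀.1.1 i : ℕ) + (a₀.1.2 i : ℕ)) = t := funext fun i => by simp only [a₀]; omega
    obtain ⟨w, hw, hwu⟩ := hP2 a₀ K g hG (hty.symm ▸ ht)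
    refine ⟨⟨a₀, w⟩, ?_, ?_⟩
    · show w ≫ qP a₀ = x
      rw [← cancel_mono (ι d), Category.assoc, hw]; rfl
    · rintro ⟨a, w'⟩ hw'
      have hw'' : w' ≫ qP a ≫ ι d = g.left := by rw [reassoc_of% hw']; rfl
      have := (hP1 a K g w' hw'').eq M ht
      obtain rfl : a = a₀ := by
        refine Subtype.ext (Prod.ext (funext fun i => Fin.ext ?_) (funext fun i => Fin.ext ?_))
        all_goals
          have h1 := congrFun this i
          have h2 := a.2.1 i
          have h3 := (a.1.1 i).2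
          simp only [a₀] at h1 ⊢
          omega
      rw [hwu w' hw'']
  have hptsW : ∀ a (K : Type u) [Field K] (x : Spec (CommRingCat.of K) ⟶ W (d - a.len) a.1.1),
      ∃! q : Σ _ : Unit, Spec (CommRingCat.of K) ⟶ Q a, q.2 ≫ qW a = x := by
    intro a K _ x
    obtain ⟨w, hw, hwu⟩ := hqW a K x
    exact ⟨⟨(), w⟩, hw, fun ⟨⟨⟩, w'⟩ h => by rw [hwu w' h]⟩
  constructor
  · rw [cl_eq_sum_of_points (ι d ≫ (H d).hom) Q qP hptsP]
    refine Finset.sum_congr rfl fun a _ => ?_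
    rw [cl_eq_sum_of_points (j (d - a.len) a.1.1 ≫ (H (d - a.len)).hom) (fun _ : Unit => Q a) (fun _ => qW a)
      (hptsW a)]
    rw [Fintype.sum_unique]
    exact K0Var.cl_congr _ _ (Iso.refl _) (by simpa using (hcomp a).symm)
  · rw [dim_eq_iSup_of_points (ι d ≫ (H d).hom) Q qP hptsP]
    refine iSup_congr fun a => ?_
    rw [dim_eq_iSup_of_points (j (d - a.len) a.1.1 ≫ (H (d - a.len)).hom) (fun _ : Unit => Q a) (fun _ => qW a)
      (hptsW a), iSup_unique]

end Groth.Agent.HilbCurve12
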